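import Cfsg.Agent.ISP.Defs

/-!
# S3535 (isospectral to `Sp`/`O` ⇒ no sporadic-order / Tits factor): definitions

`ε = 0`: types `B_n`, `C_n`; `ε = 1`, `ε = -1`: types `D_n`, `²D_n`.
-/

set_option autoImplicit false

namespace Cfsg.Agent.ISO

open ISP

/-- `η(k)`: `k` for odd `k`, `k / 2` for even `k`. -/
def eta (k : ℕ) : ℕ := if k % 2 = 1 then k else k / 2

/-- The parameters of the simple groups in the statement. -/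
def Par (n q : ℕ) (ε : ℤ) : Prop :=
  2 ≤ q ∧ ((ε = 0 ∧ 2 ≤ n ∧ (n = 2 → 4 ≤ q)) ∨ ((ε = 1 ∨ ε = -1) ∧ 4 ≤ n))

/-- The `p'`-part of the order of the covering group. -/
def ordL (n q : ℕ) (ε : ℤ) : ℤ :=
  (∏ i ∈ Finset.range (n - 1), ((q : ℤ) ^ (2 * (i + 1)) - 1)) *
    (if ε = 0 then (q : ℤ) ^ (2 * n) - 1 else (q : ℤ) ^ n - ε)

/-- The primes `r ∣ q ^ d - δ` with `η(e(r, q)) = d` are not adjacent to `2`. -/
def Top (n q : ℕ) (ε : ℤ) (d : ℕ) (δ : ℤ) : Prop :=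
  (δ = -1 ∨ (δ = 1 ∧ d % 2 = 1)) ∧ (q % 2 = 0 ∨ ((q : ℤ) ^ d - δ) % 4 = 2) ∧
    ((d = n ∧ (ε = 0 ∨ ε = δ)) ∨
      (d + 1 = n ∧ ε ≠ 0 ∧ (q % 2 = 0 ∨ ((q : ℤ) ^ n - ε) % 4 = 0)))

/-- The multiplicative order of `q` modulo the primes described by `Top`. -/
def lv (d : ℕ) (δ : ℤ) : ℕ := if δ = 1 then d else 2 * d

/-- Upper bound for the spectra of `Sp₈(2)` and `Ω₈⁻(2)`. -/
def W82 (m : ℕ) : Prop :=
  m ∣ 14 ∨ m ∣ 17 ∨ m ∣ 18 ∨ m ∣ 20 ∨ m ∣ 21 ∨ m ∣ 24 ∨ m ∣ 30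

/-- The facts on the spectrum `W` of the classical group that the proof uses. -/
structure SO (W : ℕ → Prop) (p n q : ℕ) (ε : ℤ) : Prop where
  pp : p.Prime
  hq : ∃ f, 0 < f ∧ q = p ^ f
  par : Par n q ε
  pi : ∀ r : ℕ, r.Prime → W r → r = p ∨ (r : ℤ) ∣ ordL n q ε
  lowp : W p
  two : ∀ (d : ℕ) (δ : ℤ) (r : ℕ), Top n q ε d δ → r.Prime → Od q r (lv d δ) → ¬ W (2 * r)
  low : ∀ (d : ℕ) (δ : ℤ) (m : ℕ), 0 < d → (δ = 1 ∨ δ = -1) →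
    (d < n ∨ (d = n ∧ (ε = 0 ∨ ε = δ))) → Odd m → (m : ℤ) ∣ (q : ℤ) ^ d - δ → W m
  nadj : ∀ r s k l : ℕ, r.Prime → s.Prime → r ≠ 2 → s ≠ 2 → r ≠ p → s ≠ p → r ≠ s →
    Od q r k → Od q s l → eta k ≤ eta l → eta l ≤ n → W (r * s) →
    eta k + eta l ≤ n ∨ ∃ t, Odd t ∧ l = k * t
  nadjp : ε = 0 → ∀ r k : ℕ, r.Prime → r ≠ 2 → r ≠ p → Od q r k → W (r * p) → eta k + 1 ≤ n
  pow : ∀ t c : ℕ, t.Prime → t ≠ p → W (t ^ c) →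
    ∃ d, 0 < d ∧ d ≤ n ∧ ((t : ℤ) ^ c ∣ (q : ℤ) ^ d - 1 ∨ (t : ℤ) ^ c ∣ (q : ℤ) ^ d + 1)
  j2 : q = 2 → (ε = 0 ∧ n = 3 ∨ ε = 1 ∧ n = 4) →
    (∀ m, W m → 7 ∣ m → m = 7) ∧ (∀ m, W m → 9 ∣ m → m = 9)
  he : q = 2 → n = 4 → (ε = 0 ∨ ε = -1) → (∀ m, W m → W82 m) ∧ W 21

/-- The pairs (order of `S`, `n`, `q`, `ε`) that survive the numerical sieve. -/
def surv : List (ℕ × ℕ × ℕ × ℤ) :=
  [(175560, 3, 11, 0), (175560, 4, 11, 1), (273030912000000, 3, 11, 0),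
   (273030912000000, 4, 11, 1),
   (604800, 2, 7, 0), (604800, 3, 2, 0), (604800, 3, 5, 0), (604800, 4, 2, 1), (604800, 4, 5, 1),
   (64561751654400, 6, 2, 0), (448345497600, 6, 2, 0),
   (4030387200, 2, 13, 0), (4030387200, 4, 2, 0), (4030387200, 4, 2, -1),
   (145926144000, 2, 307, 0), (145926144000, 3, 17, 0), (145926144000, 4, 17, 1),
   (17971200, 2, 5, 0), (17971200, 2, 8, 0), (17971200, 3, 3, 0), (17971200, 6, 2, 0),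
   (17971200, 4, 3, 1)]

/-- `T · (2 ^ a - 1)` where `2 ^ a` is the `2`-part of `T`. -/
def DD (T : ℕ) : ℕ := T * (2 ^ T.factorization 2 - 1)

/-- The primitive prime powers of `q ^ l - 1` live in `T`. -/
def PrimIn (T q l : ℕ) : Prop :=
  ∀ r c : ℕ, r.Prime → Od q r l → 0 < c → (r : ℤ) ^ c ∣ (q : ℤ) ^ l - 1 → r ∣ T ∧ r ^ c ∣ DD T

theorem eta_odd {k : ℕ} (h : Odd k) : eta k = k := by
  rw [eta, if_pos (Nat.odd_iff.1 h)]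

theorem eta_two_mul (k : ℕ) : eta (2 * k) = k := by
  rw [eta, if_neg (by omega)]; omega

theorem eta_spec (k : ℕ) : Odd k ∧ eta k = k ∨ Even k ∧ 2 * eta k = k := by
  unfold eta
  split_ifs with h
  · exact Or.inl ⟨Nat.odd_iff.2 h, rfl⟩
  · exact Or.inr ⟨Nat.even_iff.2 (by omega), by omega⟩

theorem Top.eta_lv {n q d : ℕ} {ε δ : ℤ} (h : Top n q ε d δ) : eta (lv d δ) = d := by
  rcases h.1 with rfl | ⟨rfl, h1⟩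
  · rw [lv, if_neg (by norm_num), eta_two_mul]
  · rw [lv, if_pos rfl, eta, if_pos h1]

end Cfsg.Agent.ISO
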