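import Cfsg.Agent.ISO.HeDefs
import Cfsg.Agent.ISP.C0a
import Cfsg.Agent.ISP.C1
import Cfsg.Agent.ISP.C3
import Cfsg.Agent.ISP.Frob
import Cfsg.Agent.PLocal.SigCoprime

set_option autoImplicit false

namespace Cfsg.Agent.ISO

open ISP Subgroup

section hred

open PLocal.Amb

theorem hred_two {B : Type*} [Group B] [Finite B] {p : ℕ} [hp : Fact p.Prime] {u z : B}
    (hu : orderOf u = p) (hz : orderOf z = p) (hn : z ∉ zpowers u) (hc : Commute u z) :
    IsPGroup p ↥(zpowers u ⊔ zpowers z) ∧ p ^ 2 ≤ Nat.card ↥(zpowers u ⊔ zpowers z) ∧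
      ∀ e ∈ zpowers u ⊔ zpowers z, ∃ i j : ℕ, e = u ^ i * z ^ j := by
  have hN : zpowers u ≤ normalizer ((zpowers z : Subgroup B) : Set B) := by
    refine zpowers_le.2 (centralizer_le_normalizer _ ?_)
    rintro _ ⟨k, rfl⟩
    exact (hc.symm.zpow_left k).eq
  have hP : IsPGroup p ↥(zpowers u ⊔ zpowers z) :=
    IsPGroup.to_sup_of_normal_right' (IsPGroup.of_card (n := 1) (by rw [Nat.card_zpowers, hu, pow_one]))
      (IsPGroup.of_card (n := 1) (by rw [Nat.card_zpowers, hz, pow_one])) hN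
  refine ⟨hP, ?_, ?_⟩
  · obtain ⟨k, hk⟩ := hP.exists_card_eq
    rw [hk]
    refine Nat.pow_le_pow_right hp.out.pos ?_
    by_contra hlt
    apply hn
    have : zpowers u = zpowers u ⊔ zpowers z := eq_of_le_of_card_ge le_sup_left (by
      rw [hk, Nat.card_zpowers, hu]
      calc p ^ k ≤ p ^ 1 := Nat.pow_le_pow_right hp.out.pos (by omega)
        _ = p := pow_one p)
    rw [this]
    exact (le_sup_right : zpowers z ≤ _) (mem_zpowers z)
  · intro e he
    rw [← SetLike.mem_coe, coe_mul_of_left_le_normalizer_right _ _ hN] at he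
    obtain ⟨a, ha, b, hb, rfl⟩ := he
    obtain ⟨i, rfl⟩ := mem_powers_iff_mem_zpowers.2 ha
    obtain ⟨j, rfl⟩ := mem_powers_iff_mem_zpowers.2 hb
    exact ⟨i, j, rfl⟩

variable {G A : Type*} [Group G] [Finite G] [Group A] {φ : G →* A}

omit [Finite G] in
theorem hred_inj {p : ℕ} [hp : Fact p.Prime] (hK : ¬ p ∣ Nat.card φ.ker) {Q : Subgroup G}
    (hQ : IsPGroup p Q) {q : G} (hq : q ∈ Q) (h1 : φ q = 1) : q = 1 := by
  obtain ⟨k, hk⟩ := IsPGroup.iff_orderOf.1 hQ ⟨q, hq⟩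
  rw [orderOf_mk] at hk
  have hd : orderOf q ∣ Nat.card φ.ker := Subgroup.orderOf_dvd_natCard _ (MonoidHom.mem_ker.2 h1)
  rcases k with _ | k
  · exact orderOf_eq_one_iff.1 (by simpa using hk)
  · exact absurd ((dvd_pow_self p (Nat.succ_ne_zero k)).trans (hk ▸ hd)) hK

/-- Lifting the centraliser of a `p`-element. -/
theorem hred_lift {p : ℕ} [hp : Fact p.Prime] (hK : ¬ p ∣ Nat.card φ.ker) {N : Subgroup G}
    (hN : ∀ a : A, ∃ n ∈ N, φ n = a) {e : G} (heN : e ∈ N) (he : orderOf e = p) {c : A}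
    (hc : Commute c (φ e)) : ∃ y ∈ N ⊓ centralizer ({e} : Set G), φ y = c := by
  have hZ : IsPGroup p (zpowers e) := IsPGroup.of_card (n := 1) (by rw [Nat.card_zpowers, he, pow_one])
  have hS : IsSyl p (zpowers e) (N ⊓ (zpowers (φ e)).comap φ) := by
    refine ⟨zpowers_le.2 ⟨heN, mem_zpowers _⟩, hZ, fun Q hQ h1 h2 q hq => ?_⟩
    obtain ⟨k, hk⟩ : φ q ∈ zpowers (φ e) := (h2 hq).2
    have hek : e ^ k ∈ Q := h1 (zpow_mem (mem_zpowers e) k)
    have := hred_inj hK hQ (Q.mul_mem hq (Q.inv_mem hek)) (by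
      rw [map_mul, map_inv, map_zpow, ← hk]; simp)
    rw [mul_inv_eq_one.1 this]
    exact zpow_mem (mem_zpowers e) k
  obtain ⟨n, hn, rfl⟩ := hN c
  obtain ⟨x, hx, y, hy, rfl⟩ := hS.frattini (g := n) (inf_normalizer_le_normalizer_inf
    ⟨le_normalizer hn, le_normalizer_comap φ (by
      rw [mem_comap]
      refine centralizer_le_normalizer _ ?_
      rintro _ ⟨k, rfl⟩
      exact (hc.symm.zpow_left k).eq)⟩)
  have hyN : y ∈ N := (Subgroup.mul_mem_cancel_left _ hx.1).1 hn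
  obtain ⟨k, hk⟩ : φ x ∈ zpowers (φ e) := hx.2
  have hk' : φ x = φ e ^ k := hk.symm
  have hcy : Commute (φ y) (φ e) := by
    have h1 : Commute (φ x)⁻¹ (φ e) := by
      rw [hk']
      exact ((Commute.refl (φ e)).zpow_left k).inv_left
    have h2 := h1.mul_left hc
    rwa [map_mul, inv_mul_cancel_left] at h2
  have hye : Commute y e := by
    have h1 : y * e * y⁻¹ ∈ zpowers e := (mem_normalizer_iff.1 hy e).1 (mem_zpowers e)
    have h2 := hred_inj hK hZ (Subgroup.mul_mem _ h1 (Subgroup.inv_mem _ (mem_zpowers e))) (by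
      rw [map_mul, map_mul, map_mul, map_inv, map_inv, hcy.eq]; group)
    rw [mul_inv_eq_one, mul_inv_eq_iff_eq_mul] at h2
    exact h2
  refine ⟨e ^ k * y, ⟨N.mul_mem (zpow_mem heN k) hyN, ?_⟩, by rw [map_mul, map_mul, map_zpow, hk']⟩
  exact mem_centralizer_singleton_iff.2 (((Commute.refl e).zpow_left k).mul_left hye).eq

/-- Step (1). -/
theorem hred_one [Finite A] (hK : ¬ 7 ∣ Nat.card φ.ker) {R : Subgroup G} (hR : IsPGroup 3 R)
    (hN : ∀ a : A, ∃ n ∈ normalizer (R : Set G), φ n = a) (h28 : ¬ Om G 28) (h42 : ¬ Om G 42)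
    {e : G} (heN : e ∈ normalizer (R : Set G)) (he : orderOf e = 7) {a b : A} (ha : orderOf a = 2)
    (hb : orderOf b = 2) (hab : a ≠ b) (hc : Commute a b) (hae : Commute a (φ e))
    (hbe : Commute b (φ e)) : R ⊓ centralizer ({e} : Set G) = ⊥ := by
  have : Fact (Nat.Prime 7) := ⟨by norm_num⟩
  have : Fact (Nat.Prime 3) := ⟨by norm_num⟩
  have : Fact (Nat.Prime 2) := ⟨by norm_num⟩
  set Y := normalizer (R : Set G) ⊓ centralizer ({e} : Set G) with hY
  obtain ⟨T, hT⟩ := exists_isSyl 2 Y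
  have hnb : b ∉ zpowers a := fun hm => by
    obtain ⟨i, hi⟩ := mem_powers_iff_mem_zpowers.2 hm
    have hi' : a ^ (i % 2) = b := by rw [← ha, pow_mod_orderOf]; exact hi
    rcases Nat.mod_two_eq_zero_or_one i with e0 | e0
    · rw [e0, pow_zero] at hi'
      rw [← hi'] at hb
      simp at hb
    · rw [e0, pow_one] at hi'
      exact hab hi'
  obtain ⟨hV, hV4, -⟩ := hred_two ha hb hnb hc
  have hVY : zpowers a ⊔ zpowers b ≤ Y.map φ := by
    refine sup_le (zpowers_le.2 ?_) (zpowers_le.2 ?_)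
    · obtain ⟨y, hy, rfl⟩ := hred_lift hK hN heN he hae
      exact ⟨y, hy, rfl⟩
    · obtain ⟨y, hy, rfl⟩ := hred_lift hK hN heN he hbe
      exact ⟨y, hy, rfl⟩
  have hT4 : 2 ^ 2 ≤ Nat.card T :=
    hV4.trans (((hT.map φ).card_le hV hVY).trans (Nat.le_of_dvd Nat.card_pos (card_map_dvd _ φ)))
  have hsq : ∀ t ∈ T, t ^ 2 = 1 := fun t ht => by
    obtain ⟨k, hk⟩ := IsPGroup.iff_orderOf.1 hT.pgrp ⟨t, ht⟩
    rw [orderOf_mk] at hk
    have hte : Commute t e := mem_centralizer_singleton_iff.1 (hT.le ht).2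
    have ho := Om.of_commute hte (by rw [hk, he]; exact Nat.Coprime.pow_left _ (by norm_num))
    rw [hk, he] at ho
    rcases k with _ | _ | k
    · rw [show t = 1 from orderOf_eq_one_iff.1 (by simpa using hk), one_pow]
    · rw [← pow_orderOf_eq_one t, hk]; norm_num
    · exact absurd (ho.of_dvd ⟨2 ^ k, by ring⟩) h28
  have hEA : IsElementaryAbelian 2 T := ⟨⟨⟨fun x y => Subtype.ext (by
    have h1 := hsq _ x.2
    have h2 := hsq _ y.2
    have h3 := hsq _ (T.mul_mem x.2 y.2)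
    rw [pow_two] at h1 h2 h3
    have i1 : (x : G)⁻¹ = x := inv_eq_of_mul_eq_one_right h1
    have i2 : (y : G)⁻¹ = y := inv_eq_of_mul_eq_one_right h2
    have i3 := inv_eq_of_mul_eq_one_right h3
    rw [mul_inv_rev, i1, i2] at i3
    exact i3.symm)⟩⟩, hsq⟩
  by_contra hne
  obtain ⟨t, ht, t1, hn⟩ := PLocal.Sig.exists_cent1_not_le (p := 2) (A := T)
    (X := R ⊓ centralizer ({e} : Set G)) (L := ⊥) hEA hT4
    (fun t ht => inf_normalizer_le_normalizer_inf ⟨(hT.le ht).1, le_normalizer (hT.le ht).2⟩)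
    (PLocal.Sig.not_dvd_of_isPGroup (q := 3) (by norm_num) (hR.to_le inf_le_left))
    (mt le_bot_iff.1 hne)
  obtain ⟨w, hw, w1⟩ := SetLike.not_le_iff_exists.1 hn
  have hte : Commute t e := mem_centralizer_singleton_iff.1 (hT.le ht).2
  have ot : orderOf t = 2 := orderOf_eq_prime (hsq t ht) t1
  have o14 : orderOf (t * e) = 14 := by
    rw [hte.orderOf_mul_eq_mul_orderOf_of_coprime (by rw [ot, he]; norm_num), ot, he]
  have hwt : Commute w t := mem_centralizer_singleton_iff.1 hw.2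
  have hwe : Commute w e := mem_centralizer_singleton_iff.1 hw.1.2
  obtain ⟨k, hk⟩ := IsPGroup.iff_orderOf.1 hR ⟨w, hw.1.1⟩
  rw [orderOf_mk] at hk
  have ho := Om.of_commute (hwt.mul_right hwe) (by
    rw [hk, o14]; exact Nat.Coprime.pow_left _ (by norm_num))
  rw [hk, o14] at ho
  rcases k with _ | k
  · exact w1 (mem_bot.2 (orderOf_eq_one_iff.1 (by simpa using hk)))
  · exact h42 (ho.of_dvd ⟨3 ^ k, by ring⟩)

theorem hred_conj {B : Type*} [Group B] {u z x : B} (huz : Commute u z) (hxz : Commute x z)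
    (hx : x * u * x⁻¹ = u * z) (k i : ℕ) : x ^ k * u ^ i * (x ^ k)⁻¹ = u ^ i * z ^ (k * i) := by
  have h1 : ∀ k : ℕ, x ^ k * u * (x ^ k)⁻¹ = u * z ^ k := fun k => by
    induction k with
    | zero => simp
    | succ k ih =>
      have h2 : x * z ^ k * x⁻¹ = z ^ k := by rw [(hxz.pow_right k).eq]; group
      calc x ^ (k + 1) * u * (x ^ (k + 1))⁻¹ = x * (x ^ k * u * (x ^ k)⁻¹) * x⁻¹ := by
            rw [pow_succ']; group
        _ = (x * u * x⁻¹) * (x * z ^ k * x⁻¹) := by rw [ih]; group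
        _ = u * z ^ (k + 1) := by rw [hx, h2, pow_succ']; group
  rw [← conj_pow, h1, (huz.pow_right k).mul_pow, ← pow_mul]

end hred

/-- Reduction to `S`. `K = ker φ`. `7 ∤ |K|` (`Cf.om_pow_of_ker`, `s = 7, t = 5, b = 2`: no `35`, no `25`); `3, 7 ∤ |A : S|`
(`Cf.dvd_of_index`, `l = 17`, `b = 1`). If `3 ∤ |K|`: `Cf.om_sub`. If `3 ∣ |K|`: `R ≠ 1` Sylow `3` in `K`, `N = N_G(R) ↠ A` (Frattini).
(1) If `ẽ ∈ N` has order `7` and `φ ẽ` is centralised by a four-group `V ≤ S` then `C_R(ẽ) = 1`: `X₀ ⊴ X` the preimages in `N` of `⟨φ ẽ⟩`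
and `⟨φ ẽ⟩ V`, Frattini `X = X₀ N_X(⟨ẽ⟩)`, `N_X(⟨ẽ⟩) = C_X(ẽ)` maps onto, so its Sylow `2`-subgroup has order `≥ 4` and exponent `2` (no `28`):
a four-group acts on `C_R(ẽ)`, no involution has a fixed point (no `42`), so `C_R(ẽ) = 1` (cf. `ISP.rank_one_normalizer`).
(2) `Ẽ` Sylow `7` in the preimage of `E = ⟨u, z⟩`, `Ẽ ≅ E = 7²`; each `e ∈ E - ⟨z⟩` is `x ^ j u ^ i x⁻¹ ^ j`, so (1) applies; coprime
action of the noncyclic abelian `Ẽ`: `R = ⟨C_R(ẽ)⟩ = C_R(z̃)`. So `φ(C_G(R)) ⊴ A` meets `S`, contains `S`, `17 ∣ |C_G(R)|`: order `51`. -/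
theorem he_red {G A : Type*} [Group G] [Finite G] [Group A] {φ : G →* A} {S : Subgroup A}
    (h : Cf φ S) (hS : Nat.card S = 4030387200) (hW : ∀ m, Om G m → W82 m) (h21 : Om G 21) :
    HH S ∧ (Om S 21 ∨ NB S) := by
  have : Fact (Nat.Prime 7) := ⟨by norm_num⟩
  have : Fact (Nat.Prime 3) := ⟨by norm_num⟩
  have : Fact (Nat.Prime 17) := ⟨by norm_num⟩
  have := h.finite
  have := h.nor
  have := h.simp
  have no : ∀ m, ¬ W82 m → ¬ Om G m := fun m h1 h2 => h1 (hW m h2)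
  have HS : HH S := ⟨h.simp, hS, fun g => hW _ (h.om ⟨g, rfl⟩)⟩
  refine ⟨HS, ?_⟩
  have hK7 : ¬ 7 ∣ Nat.card φ.ker := fun hK =>
    no (5 ^ 2) (by unfold W82; norm_num) (h.om_pow_of_ker (s := 7) (t := 5) (b := 2) (by norm_num)
      (by norm_num) (by norm_num) (by norm_num) hK (no _ (by unfold W82; norm_num))
      (Dvd.dvd.trans (by rw [hS]; norm_num) (card_subgroup_dvd_card S)))
  by_cases hK3 : 3 ∣ Nat.card φ.ker
  swap
  · left
    have hI : ∀ s : ℕ, s.Prime → s ≠ 17 → ¬ W82 (s * 17) → ¬ s ∣ 16 → ¬ s ∣ S.index :=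
      fun s hs h17 h1 h2 h3 => h2 (by
        simpa using h.dvd_of_index (l := 17) (b := 1) hs (by norm_num) h17 (by rw [hS]; norm_num)
          (by rw [hS]; norm_num) (no _ h1) h3)
    have i3 := hI 3 (by norm_num) (by norm_num) (by unfold W82; norm_num) (by norm_num)
    have i7 := hI 7 (by norm_num) (by norm_num) (by unfold W82; norm_num) (by norm_num)
    have c : ∀ n : ℕ, ¬ 3 ∣ n → ¬ 7 ∣ n → Nat.Coprime 21 n := fun n h3 h7 =>
      Nat.Coprime.mul_left (m := 3) (n := 7) ((Nat.Prime.coprime_iff_not_dvd (by norm_num)).2 h3)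
        ((Nat.Prime.coprime_iff_not_dvd (by norm_num)).2 h7)
    exact h.om_sub (c _ hK3 hK7) (c _ i3 i7) h21
  right
  intro u z x a b hu hz hzu huz hxz hx ha hb hab hcab hau hbu
  obtain ⟨R, hR⟩ := PLocal.Amb.exists_isSyl 3 φ.ker
  have hN : ∀ a : A, ∃ n ∈ normalizer (R : Set G), φ n = a := fun a => by
    obtain ⟨g, rfl⟩ := h.surj a
    obtain ⟨k, hk, x, hx, rfl⟩ := hR.frattini (g := g) (by rw [normalizer_eq_top]; trivial)
    exact ⟨x, hx, by rw [map_mul, show φ k = 1 from hk, one_mul]⟩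
  obtain ⟨w, wR, w1⟩ : ∃ w ∈ R, w ≠ 1 := by
    by_contra! r
    exact hR.eq_bot_iff.1 (eq_bot_iff.2 r) hK3
  obtain ⟨hE, hE2, hEm⟩ := hred_two hu hz hzu huz
  set E := (zpowers u ⊔ zpowers z).map S.subtype with hEd
  have hEp : IsPGroup 7 E := hE.map _
  set X := normalizer (R : Set G) ⊓ E.comap φ with hX
  obtain ⟨U, hU⟩ := PLocal.Amb.exists_isSyl 7 X
  have hXm : X.map φ = E := le_antisymm (map_le_iff_le_comap.2 inf_le_right) fun τ hτ => by
    obtain ⟨n, hn, rfl⟩ := hN τ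
    exact ⟨n, ⟨hn, hτ⟩, rfl⟩
  have hUm : E = U.map φ := by
    have := hU.map φ
    rw [hXm] at this
    exact this.eq hEp this.le le_rfl
  have hUE : ∀ e ∈ U, ∃ i j : ℕ, φ e = ((u ^ i * z ^ j : S) : A) := fun e he => by
    obtain ⟨s, hs, e1⟩ : φ e ∈ E := (hU.le he).2
    obtain ⟨i, j, rfl⟩ := hEm s hs
    exact ⟨i, j, e1.symm⟩
  have u7 : u ^ 7 = 1 := by rw [← hu, pow_orderOf_eq_one]
  have z7 : z ^ 7 = 1 := by rw [← hz, pow_orderOf_eq_one]
  have hEA : IsElementaryAbelian 7 U := by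
    refine ⟨⟨⟨fun e f => Subtype.ext ?_⟩⟩, fun e he => ?_⟩
    · obtain ⟨i, j, hij⟩ := hUE e e.2
      obtain ⟨k, l, hkl⟩ := hUE f f.2
      have c : Commute (u ^ i * z ^ j) (u ^ k * z ^ l) :=
        (((Commute.refl u).pow_pow i k).mul_right (huz.pow_pow i l)).mul_left
          ((huz.symm.pow_pow j k).mul_right ((Commute.refl z).pow_pow j l))
      have c' : φ e * φ f = φ f * φ e := by
        rw [hij, hkl, ← Subgroup.coe_mul, ← Subgroup.coe_mul, c.eq]
      have := hred_inj hK7 hU.pgrp (U.mul_mem (U.mul_mem e.2 f.2) (U.inv_mem (U.mul_mem f.2 e.2))) (by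
        rw [map_mul, map_inv, map_mul, map_mul, c', mul_inv_cancel])
      exact mul_inv_eq_one.1 this
    · obtain ⟨i, j, hij⟩ := hUE e he
      refine hred_inj hK7 hU.pgrp (U.pow_mem he 7) ?_
      rw [map_pow, hij, ← Subgroup.coe_pow, (huz.pow_pow i j).mul_pow, ← pow_mul, ← pow_mul,
        mul_comm i, mul_comm j, pow_mul, pow_mul, u7, z7]
      simp
  have hU2 : 7 ^ 2 ≤ Nat.card U := by
    refine hE2.trans ?_
    rw [← card_map_of_injective (K := zpowers u ⊔ zpowers z) S.subtype_injective, ← hEd, hUm]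
    exact Nat.le_of_dvd Nat.card_pos (card_map_dvd _ φ)
  obtain ⟨z', hz', ez⟩ : (z : A) ∈ U.map φ :=
    hUm.le ⟨z, (le_sup_right : zpowers z ≤ _) (mem_zpowers z), rfl⟩
  have hRz : R ≤ centralizer ({z'} : Set G) := by
    refine PLocal.Sig.le_of_cent1_le (p := 7) hEA hU2 (hU.le.trans inf_le_left)
      (PLocal.Sig.not_dvd_of_isPGroup (q := 3) (by norm_num) hR.pgrp) fun e he e1 => ?_
    have oe : orderOf e = 7 := PLocal.Sig.ea_orderOf hEA he e1
    obtain ⟨i, j, hij⟩ := hUE e he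
    by_cases hi : 7 ∣ i
    · obtain ⟨i, rfl⟩ := hi
      rw [pow_mul, u7, one_pow, one_mul] at hij
      have e2 : e = z' ^ j := mul_inv_eq_one.1 (hred_inj hK7 hU.pgrp
        (U.mul_mem he (U.inv_mem (U.pow_mem hz' j))) (by
          rw [map_mul, map_inv, map_pow, ez, hij]; simp))
      have oz : orderOf z' = 7 := PLocal.Sig.ea_orderOf hEA hz' (by
        rintro rfl
        exact e1 (by rw [e2, one_pow]))
      have hm : z' ∈ zpowers e := by
        have : zpowers e = zpowers z' := eq_of_le_of_card_ge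
          (zpowers_le.2 (e2 ▸ pow_mem (mem_zpowers z') j))
          (by rw [Nat.card_zpowers, Nat.card_zpowers, oe, oz])
        rw [this]
        exact mem_zpowers z'
      obtain ⟨k, hk⟩ := hm
      intro v hv
      have c : Commute v e := mem_centralizer_singleton_iff.1 hv.2
      refine mem_centralizer_singleton_iff.2 ?_
      rw [← hk]
      exact (c.zpow_right k).eq
    · have h6 : i ^ 6 ≡ 1 [MOD 7] := by
        have := Nat.ModEq.pow_totient (x := i) (n := 7)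
          ((Nat.Prime.coprime_iff_not_dvd (by norm_num)).2 hi).symm
        rwa [Nat.totient_prime (by norm_num)] at this
      have hk : z ^ (j * i ^ 5 * i) = z ^ j := by
        rw [pow_eq_pow_iff_modEq, hz]
        calc j * i ^ 5 * i = j * i ^ 6 := by ring
          _ ≡ j * 1 [MOD 7] := h6.mul_left j
          _ = j := mul_one j
      have hcj := hred_conj huz hxz hx (j * i ^ 5) i
      rw [hk] at hcj
      set g := x ^ (j * i ^ 5) with hg
      have key : ∀ c : S, Commute c u → Commute ((g * c * g⁻¹ : S) : A) (φ e) := fun c hc => by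
        rw [hij, ← hcj]
        have : Commute (g * c * g⁻¹) (g * u ^ i * g⁻¹) := (hc.pow_right i).conj g
        exact this.map S.subtype
      have oc : ∀ c : S, orderOf ((g * c * g⁻¹ : S) : A) = orderOf c := fun c => by
        rw [orderOf_coe, PLocal.Amb.orderOf_conj']
      have := hred_one hK7 hR.pgrp hN (no _ (by unfold W82; norm_num)) (no _ (by unfold W82; norm_num))
        (hU.le he).1 oe ((oc a).trans ha) ((oc b).trans hb)
        (fun e => hab (by simpa using e)) ((hcab.conj g).map S.subtype) (key a hau) (key b hbu)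
      exact this.le.trans bot_le
  have hzC : z' ∈ centralizer (R : Set G) := fun v hv => mem_centralizer_singleton_iff.1 (hRz hv)
  have hn : ((centralizer (R : Set G)).map φ).Normal := ⟨by
    rintro _ ⟨c, hc, rfl⟩ a
    obtain ⟨n, hn, rfl⟩ := hN a
    refine ⟨n * c * n⁻¹, fun v hv => ?_, by simp⟩
    have := hc _ ((mem_normalizer_iff.1 (inv_mem hn) v).1 hv)
    calc v * (n * c * n⁻¹) = n * (n⁻¹ * v * n⁻¹⁻¹ * c) * n⁻¹ := by group
      _ = n * c * n⁻¹ * v := by rw [this]; group⟩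
  rcases (hn.subgroupOf S).eq_bot_or_eq_top with e | e
  · have : z ∈ ((centralizer (R : Set G)).map φ).subgroupOf S := ⟨z', hzC, ez⟩
    rw [e, mem_bot] at this
    rw [this] at hz
    simp at hz
  · obtain ⟨y, hy⟩ := exists_prime_orderOf_dvd_card' (G := S) 17 (by rw [hS]; norm_num)
    obtain ⟨c, hc, ec⟩ : (y : A) ∈ (centralizer (R : Set G)).map φ := e.ge (mem_top y)
    obtain ⟨j, hj⟩ := frob_pow (g := c) (u := 17) (by
      rw [← hy, ← orderOf_coe, ← ec]; exact orderOf_map_dvd φ c)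
    exact no (3 * 17) (by unfold W82; norm_num)
      (frob_om (by norm_num) (by norm_num) hR.pgrp wR w1 hj (Commute.pow_right (hc w wR) j))

end Cfsg.Agent.ISO
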