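import Cfsg.Agent.ISO.HeDefs
import Cfsg.Agent.ISP.C0a
import Cfsg.Agent.ISP.C1
import Cfsg.Agent.ISP.C3
import Cfsg.Agent.Misc.Mazurov

set_option autoImplicit false

namespace Cfsg.Agent.ISO

open ISP Subgroup

section J2A

open PLocal.Amb

theorem j2a_one {X : Type*} [Group X] (h7 : ∀ m, Om X m → 7 ∣ m → m = 7) {k c : X}
    (hk : orderOf k = 7) (hc : Commute c k) (h : ¬ 7 ∣ orderOf c) : c = 1 := by
  have := h7 _ (Om.of_commute hc (by
    rw [hk]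
    exact ((Nat.Prime.coprime_iff_not_dvd (by norm_num)).2 h).symm)) (by rw [hk]; exact Dvd.intro_left _ rfl)
  rw [hk] at this
  exact orderOf_eq_one_iff.1 (by omega)

theorem j2a_norm {X : Type*} [Group X] [Finite X] (h7 : ∀ m, Om X m → 7 ∣ m → m = 7)
    {Q : Subgroup X} (hQ : IsSyl 7 Q ⊤) (h : Nat.card Q = 7) :
    Nat.card 𝐍[Q] ∣ 42 ∧ (Nat.card 𝐍[Q] = 42 → ∃ y ∈ 𝐍[Q], 6 ∣ orderOf y) := by
  haveI : Fact (Nat.Prime 7) := ⟨by norm_num⟩
  haveI := isCyclic_of_prime_card h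
  obtain ⟨k, hk⟩ := exists_prime_orderOf_dvd_card' (G := Q) 7 (by rw [h])
  have hk' : orderOf (k : X) = 7 := (Subgroup.orderOf_coe k).trans hk
  have C : 𝐂[Q] = Q := le_antisymm (fun c hc => by
    by_cases d : 7 ∣ orderOf c
    · have e := h7 _ ⟨c, rfl⟩ d
      exact hQ.le_of_normalizes (isPGroup_zpowers ⟨1, by rw [pow_one, ← e, pow_orderOf_eq_one]⟩) le_top
        (zpowers_le.2 (centralizer_le_normalizer' _ hc)) (mem_zpowers c)
    · rw [j2a_one h7 hk' (hc k k.2).symm d]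
      exact one_mem _) (le_centralizer Q)
  have c1 := Q.normalizerMonoidHom.ker.card_mul_index
  rw [index_ker, normalizerMonoidHom_ker, C,
    Nat.card_congr (subgroupOfEquivOfLe (le_normalizer (H := Q))).toEquiv, h] at c1
  have c2 : Nat.card (MulAut Q) = 6 := by
    rw [IsCyclic.card_mulAut, h]
    decide
  haveI : Finite (MulAut Q) := Nat.finite_of_card_ne_zero (by omega)
  refine ⟨c1 ▸ Nat.mul_dvd_mul_left 7 (c2 ▸ card_subgroup_dvd_card _), fun e => ?_⟩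
  have c3 := eq_top_of_card_eq Q.normalizerMonoidHom.range (by omega)
  haveI : IsCyclic (ZMod (Nat.card Q))ˣ := ZMod.isCyclic_units_prime (by rw [h]; norm_num)
  haveI : IsCyclic (MulAut Q) :=
    isCyclic_of_surjective _ (IsCyclic.mulAutMulEquiv Q).symm.surjective
  obtain ⟨σ, hσ⟩ := IsCyclic.exists_ofOrder_eq_natCard (α := MulAut Q)
  obtain ⟨y, rfl⟩ := MonoidHom.range_eq_top.1 c3 σ
  exact ⟨y, y.2, by rw [Subgroup.orderOf_coe, ← c2, ← hσ]; exact orderOf_map_dvd _ y⟩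

variable {G A : Type*} [Group G] [Finite G] [Group A] {φ : G →* A} {S : Subgroup A}

theorem j2a_syl (h : Cf φ S) (hS : Nat.card S = 604800) (h7 : ∀ m, Om G m → 7 ∣ m → m = 7)
    {Q : Subgroup A} (hQ : IsSyl 7 Q S) :
    Nat.card Q = 7 ∧ 𝐍[Q] ≤ S ∧ ∃ y ∈ 𝐍[Q], 6 ∣ orderOf y := by
  haveI := h.finite
  haveI : Fact (Nat.Prime 7) := ⟨by norm_num⟩
  have i7 : ¬ 7 ∣ S.index := fun d => by
    have := h.dvd_of_index (s := 7) (l := 2) (b := 7) (by norm_num) Nat.prime_two (by norm_num)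
      (by rw [hS]; norm_num) (by rw [hS]; norm_num) (fun e => by have := h7 _ e (by norm_num); omega) d
    norm_num at this
  have c7 : Nat.card Q = 7 := by
    rw [hQ.card_eq_pow, hS, show (604800 : ℕ) = 7 * 86400 by norm_num,
      Nat.factorization_mul (by norm_num) (by norm_num), Finsupp.add_apply,
      Nat.factorization_eq_zero_of_not_dvd (n := 86400) (by norm_num),
      Nat.Prime.factorization_self (by norm_num)]
    norm_num
  have hT : IsSyl 7 Q ⊤ := isSyl_of_not_dvd_relIndex hQ.pgrp le_top (by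
    rw [relIndex_top_right, ← relIndex_mul_index hQ.le]
    exact fun d => ((Nat.Prime.dvd_mul (by norm_num)).1 d).elim hQ.not_dvd_relIndex i7)
  obtain ⟨d1, d2⟩ := j2a_norm (fun m hm => h7 m (h.omA hm)) hT c7
  have m1 : (𝐍[Q]).relIndex S ≡ 1 [MOD 7] := by
    obtain ⟨P, hP⟩ := hQ.exists_sylow
    have h1 := card_sylow_modEq_one 7 S
    rw [P.card_eq_index_normalizer] at h1
    have h2 : normalizer (P : Set S) = (𝐍[Q]).subgroupOf S := by
      rw [subgroupOf_normalizer_eq hQ.le, ← hP]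
      rfl
    rwa [h2] at h1
  have m2 := ((𝐍[Q]).subgroupOf S).card_mul_index
  rw [hS, ← inf_subgroupOf_right, Nat.card_congr (subgroupOfEquivOfLe inf_le_right).toEquiv,
    inf_subgroupOf_right] at m2
  have m3 : Nat.card ↥(𝐍[Q] ⊓ S) ∣ 42 := (card_dvd_of_le inf_le_left).trans d1
  have m4 : Nat.card ↥(𝐍[Q] ⊓ S) = 42 := by
    unfold relIndex Nat.ModEq at m1
    have := Nat.le_of_dvd (by norm_num) m3
    generalize Nat.card ↥(𝐍[Q] ⊓ S) = a at *
    generalize ((𝐍[Q]).subgroupOf S).index = n at *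
    interval_cases a <;> omega
  have m5 := eq_of_le_of_card_ge (inf_le_left : 𝐍[Q] ⊓ S ≤ 𝐍[Q])
    (m4 ▸ Nat.le_of_dvd (by norm_num) d1)
  exact ⟨c7, inf_eq_left.1 m5, d2 (m5 ▸ m4)⟩

theorem j2a_top (h : Cf φ S) (hS : Nat.card S = 604800) (h7 : ∀ m, Om G m → 7 ∣ m → m = 7) :
    S = ⊤ := by
  haveI := h.finite
  haveI := h.nor
  haveI : Fact (Nat.Prime 7) := ⟨by norm_num⟩
  obtain ⟨Q, hQ⟩ := exists_isSyl 7 S
  refine eq_top_iff.2 fun g _ => ?_
  obtain ⟨n, hn, x, hx, rfl⟩ := hQ.frattini (g := g) (by rw [normalizer_eq_top]; trivial)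
  exact mul_mem hn ((j2a_syl h hS h7 hQ).2.1 hx)

theorem j2a_ker (h : Cf φ S) (hS : Nat.card S = 604800) (h7 : ∀ m, Om G m → 7 ∣ m → m = 7)
    (h9 : ∀ m, Om G m → 9 ∣ m → m = 9) : ¬ 3 ∣ Nat.card φ.ker := by
  intro h3
  haveI := h.finite
  haveI : Fact (Nat.Prime 7) := ⟨by norm_num⟩
  haveI : Fact (Nat.Prime 3) := ⟨by norm_num⟩
  have k7 := h.not_dvd_ker (r := 7) (by norm_num) (by norm_num)
    (fun e => by have := h7 _ e (by norm_num); omega)
  obtain ⟨R, hR⟩ := exists_isSyl 3 φ.ker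
  obtain ⟨q, hq, q1⟩ := R.bot_or_exists_ne_one.resolve_left fun e => hR.eq_bot_iff.1 e h3
  have sur : ∀ a : A, ∃ g ∈ 𝐍[R], φ g = a := fun a => by
    obtain ⟨g, rfl⟩ := h.surj a
    obtain ⟨n, hn, x, hx, rfl⟩ := hR.frattini (g := g) (by rw [normalizer_eq_top]; trivial)
    exact ⟨x, hx, by rw [map_mul, MonoidHom.mem_ker.1 hn, one_mul]⟩
  obtain ⟨T, hT⟩ := exists_isSyl 7 𝐍[R]
  have hQ := hT.map φ
  rw [show (𝐍[R]).map φ = S from (eq_top_iff.2 fun a _ => sur a).trans (j2a_top h hS h7).symm] at hQ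
  obtain ⟨c7, -, y, hy, y6⟩ := j2a_syl h hS h7 hQ
  have TK : ∀ t ∈ T, t ∈ φ.ker → t = 1 := fun t ht hk =>
    eq_one_of_isPGroup_of_coprime hT.pgrp ht ((Nat.Prime.coprime_iff_not_dvd (by norm_num)).2
      fun d => k7 (d.trans (φ.ker.orderOf_dvd_natCard hk))).symm
  have T7 : ∀ t ∈ T, t ≠ 1 → orderOf t = 7 := fun t ht t1 => h7 _ ⟨t, rfl⟩ (by
    by_contra d
    exact t1 (eq_one_of_isPGroup_of_coprime hT.pgrp ht
      ((Nat.Prime.coprime_iff_not_dvd (by norm_num)).2 d).symm))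
  obtain ⟨k, hk, k1⟩ := T.bot_or_exists_ne_one.resolve_left fun e => by
    rw [e, Subgroup.map_bot, card_bot] at c7
    omega
  obtain ⟨w, wN, wT, wy⟩ : ∃ w ∈ 𝐍[R], w ∈ 𝐍[T] ∧ φ w = y := by
    obtain ⟨g, hg, rfl⟩ := sur y
    obtain ⟨x, hx, n, hn, rfl⟩ := (hT.mono (K := 𝐍[R] ⊓ (T.map φ).comap φ)
      (le_inf hT.le (le_comap_map φ T)) inf_le_left).frattini' (g := g)
      (zpowers_le.1 (le_normalizer_inf (zpowers_le.2 (le_normalizer hg))
        (zpowers_le.2 (le_normalizer_comap φ hy))))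
    obtain ⟨t, ht, e⟩ := hn.2
    exact ⟨x * t, mul_mem (((𝐍[R]).mul_mem_cancel_right hn.1).1 hg) (hT.le ht), mul_mem hx (le_normalizer ht),
      by rw [map_mul, map_mul, e]⟩
  have w6 : 6 ∣ orderOf w := y6.trans (wy ▸ orderOf_map_dvd φ w)
  haveI : (R.subgroupOf 𝐍[R]).Normal := normal_subgroupOf' le_rfl
  let f := QuotientGroup.mk' (R.subgroupOf 𝐍[R])
  have fk : ∀ x : 𝐍[R], f x = 1 ↔ (x : G) ∈ R := fun x => QuotientGroup.eq_one_iff x
  have key := Misc.Spec.mazurov (p := 3) (by norm_num) f (QuotientGroup.mk'_surjective _)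
    (by rw [QuotientGroup.ker_mk']; exact isPGroup_subgroupOf hR.pgrp _) ((T.subgroupOf 𝐍[R]).map f)
    (x := f ⟨w, wN⟩) (le_normalizer_map f (mem_map_of_mem f (le_normalizer_comap _ wT))) ?_ ?_
    (g := ⟨k, hT.le hk⟩) (mem_map_of_mem f hk) (by rw [orderOf_mk, T7 k hk k1]; norm_num)
    (q := ⟨q, le_normalizer hq⟩) ((fk _).2 hq) fun e => q1 ?_
  · have a1 : 6 ∣ orderOf (f ⟨w, wN⟩) := by
      refine y6.trans (orderOf_dvd_of_pow_eq_one ?_)
      have := pow_orderOf_eq_one (f ⟨w, wN⟩)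
      rw [← map_pow, fk] at this
      rw [← wy, ← map_pow]
      exact hR.le this
    have a2 := h9 _ (Om.of_sub _ key) (by omega)
    omega
  · rintro i hi _ ⟨t, ht, rfl⟩ e
    by_contra t1
    have a1 : f (⟨w, wN⟩ ^ i * t * (⟨w, wN⟩ ^ i)⁻¹ * t⁻¹) = 1 := by
      rw [map_mul, map_mul, map_mul, map_inv, map_inv, map_pow, e]
      group
    have a2 : w ^ i * t * (w ^ i)⁻¹ * (t : G)⁻¹ = 1 :=
      TK _ (mul_mem (conj_mem_of_mem_normalizer (pow_mem wT i) ht) (inv_mem ht)) (hR.le ((fk _).1 a1))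
    rw [mul_inv_eq_one, mul_inv_eq_iff_eq_mul] at a2
    have a3 := j2a_one h7 (T7 t ht fun e => t1 (by rw [show t = 1 from Subtype.ext e, map_one])) a2
      fun d => by
        have := h7 _ ⟨w, rfl⟩ (d.trans (orderOf_pow_dvd i))
        omega
    exact hi (by rw [← map_pow, show (⟨w, wN⟩ : 𝐍[R]) ^ i = 1 from Subtype.ext a3, map_one])
  · obtain ⟨n, hn⟩ := IsPGroup.iff_card.1 ((isPGroup_subgroupOf hT.pgrp 𝐍[R]).map f)
    rw [hn]
    intro d
    have := Nat.Prime.dvd_of_dvd_pow (by norm_num) d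
    omega
  · refine j2a_one h7 (T7 k hk k1) (congrArg Subtype.val e).symm fun d => ?_
    obtain ⟨n, hn⟩ := isPGroup_iff.1 hR.pgrp q hq
    have := Nat.Prime.dvd_of_dvd_pow (by norm_num) (d.trans (orderOf_dvd_of_pow_eq_one hn))
    omega

end J2A

/-- `K = ker φ`, `7 ∤ |K|` (`Cf.not_dvd_ker`), `7 ∤ |A : S|` (`Cf.dvd_of_index`, `l = 2`, `b = 7`). `Q = ⟨k⟩` Sylow `7` of `S`; `C_A(Q) = Q`,
`|N_A(Q)| ∣ 42`; `n₇(S) = 86400 / e ≡ 1 (7)` forces `|N_S(Q)| = 42`; Frattini `A = S N_A(Q)` gives `S = ⊤`. `N(Q)/Q ≅ Aut(Q)` is cyclic: `y` of order `6`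
(orders divisible by `7` are `7`). Suppose `3 ∣ |K|`: `R` Sylow `3` of `K`, `N_G(R) ↠ A`, `k̃ ∈ N_G(R)` of order `7` over `k`, Frattini:
`F = N_{N_G(R)}(⟨k̃⟩)` maps onto `N_A(Q)`, injectively (`C_G(k̃) = ⟨k̃⟩`); `Cfsg.Agent.Misc.Spec.mazurov` for `φ` restricted to `R F → N_A(Q)`
(kernel `R`; `k̃` centralises nothing in `R`) gives order `18`. So `3 ∤ |K|`, `Cf.om_sub`. -/
theorem j2_red {G A : Type*} [Group G] [Finite G] [Group A] {φ : G →* A} {S : Subgroup A}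
    (h : Cf φ S) (hS : Nat.card S = 604800) (h7 : ∀ m, Om G m → 7 ∣ m → m = 7)
    (h9 : ∀ m, Om G m → 9 ∣ m → m = 9) (h9' : Om G 9) : Om S 9 := by
  refine h.om_sub ?_ ?_ h9'
  · exact (((Nat.Prime.coprime_iff_not_dvd Nat.prime_three).2 (j2a_ker h hS h7 h9)).pow_left 2 :)
  · rw [j2a_top h hS h7, index_top]
    norm_num

end Cfsg.Agent.ISO
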