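import Cfsg.Agent.ISO.HeDefs
import Cfsg.Agent.S3347
import Cfsg.Agent.S2807

set_option autoImplicit false

namespace Cfsg.Agent.ISO

open ISP Subgroup

open scoped commutatorElement

theorem j2c_27 {G : Type*} [Group G] (hc : Nat.card G = 3 ^ 3) (hn : ¬ IsMulCommutative G) :
    Nat.card (center G) = 3 ∧ (∀ a b : G, ⁅a, b⁆ ∈ center G) ∧ ∀ a : G, a ^ 3 ∈ center G := by
  have : Fact (Nat.Prime 3) := ⟨Nat.prime_three⟩
  have : Finite G := Nat.finite_of_card_ne_zero (by rw [hc]; norm_num)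
  have hq : ¬ IsCyclic (G ⧸ center G) := fun _ =>
    hn (isMulCommutative_of_isCyclic_quotient_center_self G)
  obtain ⟨k, k0, hk⟩ := IsPGroup.card_center_eq_prime_pow hc (by norm_num)
  have h1 := (center G).card_mul_index
  rw [hc, hk, index] at h1
  have k3 : k ≤ 3 := (Nat.pow_dvd_pow_iff_le_right (by norm_num)).1 (Dvd.intro _ h1)
  have h9 : Nat.card (G ⧸ center G) = 3 ^ 2 ∧ k = 1 := by
    interval_cases k
    · exact ⟨by omega, rfl⟩
    · exact absurd (isCyclic_of_prime_card (p := 3) (by omega)) hq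
    · have : Subsingleton (G ⧸ center G) := (Nat.card_eq_one_iff_unique.1 (by omega)).1
      exact absurd isCyclic_of_subsingleton hq
  refine ⟨by rw [hk, h9.2, pow_one], fun a b => ?_, fun a => ?_⟩
  · have := IsPGroup.isMulCommutative_of_card_eq_prime_sq h9.1
    rw [← QuotientGroup.eq_one_iff]
    change QuotientGroup.mk' _ ⁅a, b⁆ = 1
    rw [map_commutatorElement, commutatorElement_eq_one_iff_mul_comm]
    exact this.is_comm.comm _ _
  · rw [← QuotientGroup.eq_one_iff, QuotientGroup.mk_pow, ← orderOf_dvd_iff_pow_eq_one]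
    have hd := orderOf_dvd_natCard (a : G ⧸ center G)
    rw [h9.1] at hd
    obtain ⟨j, j2, hj⟩ := (Nat.dvd_prime_pow Nat.prime_three).1 hd
    interval_cases j
    · rw [hj]; norm_num
    · rw [hj]; norm_num
    · exact absurd (isCyclic_of_orderOf_eq_card _ (hj.trans h9.1.symm)) hq

theorem j2c_core {Q : Type*} [Group Q] (hs : IsSimpleGroup Q) (hS : Nat.card Q = 604800) :
    pCore 3 Q = ⊥ ∧ pPrimeCore 3 Q = ⊥ := by
  have : Fact (Nat.Prime 3) := ⟨Nat.prime_three⟩
  have : Finite Q := Nat.finite_of_card_ne_zero (by rw [hS]; norm_num)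
  refine ⟨sSup_eq_bot.2 ?_, sSup_eq_bot.2 ?_⟩
  · rintro N ⟨h1, h2⟩
    refine (hs.eq_bot_or_eq_top_of_normal N h1).resolve_right ?_
    rintro rfl
    obtain ⟨k, hk⟩ := IsPGroup.iff_card.1 h2
    rw [card_top, hS] at hk
    have : 2 ∣ 3 ^ k := hk ▸ by norm_num
    have := Nat.Prime.dvd_of_dvd_pow Nat.prime_two this
    omega
  · rintro N ⟨h1, h2⟩
    refine (hs.eq_bot_or_eq_top_of_normal N h1).resolve_right ?_
    rintro rfl
    rw [card_top, hS] at h2
    norm_num at h2

theorem j2c_ups {S : Type*} [Group S] (hs : IsSimpleGroup S) (hS : Nat.card S = 604800) (n : ℕ) :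
    (upperPSeries 3 S n).1 = ⊥ := by
  have key : ∀ (U : Subgroup S) [U.Normal], U = ⊥ →
      (pCore 3 (S ⧸ U)).comap (QuotientGroup.mk' U) = ⊥ ∧
        (pPrimeCore 3 (S ⧸ U)).comap (QuotientGroup.mk' U) = ⊥ := by
    intro U _ hU
    subst hU
    obtain ⟨h1, h2⟩ := j2c_core (Q := S ⧸ (⊥ : Subgroup S))
      (QuotientGroup.quotientBot (G := S)).isSimpleGroup
      ((Nat.card_congr (QuotientGroup.quotientBot (G := S)).toEquiv).trans hS)
    rw [h1, h2, MonoidHom.comap_bot, QuotientGroup.ker_mk']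
    exact ⟨rfl, rfl⟩
  induction n with
  | zero => rfl
  | succ n ih =>
    rw [upperPSeries]
    split_ifs
    · exact (key _ ih).2
    · exact (key _ ih).1

/-- the nonabelian case inside `N` -/
theorem j2c_nab {N : Type*} [Group N] {P : Subgroup N} (hi : P.index = 2) (hc : Nat.card P = 3 ^ 3)
    (hn : ¬ IsMulCommutative P) (hP : P ≤ commutator N) {t x : N} (ht : t * t = 1) (htP : t ∉ P)
    (hx : x ∈ P) (ho : orderOf x = 9) : False := by
  have : P.Normal := P.normal_of_index_eq_two hi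
  obtain ⟨c3, cc, cp⟩ := j2c_27 hc hn
  have hti : t⁻¹ = t := inv_eq_of_mul_eq_one_right ht
  let Z : Subgroup N := (center P).map P.subtype
  have hZ : ∀ {z}, z ∈ Z ↔ z ∈ P ∧ ∀ y ∈ P, y * z = z * y := fun {z} =>
    ⟨by rintro ⟨w, hw, rfl⟩; exact ⟨w.2, fun y hy => congrArg Subtype.val (mem_center_iff.1 hw ⟨y, hy⟩)⟩,
      fun h => ⟨⟨z, h.1⟩, mem_center_iff.2 fun y => Subtype.ext (h.2 y y.2), rfl⟩⟩
  have Zn : Z.Normal := inferInstance
  have Zc : Nat.card Z = 3 := by rw [card_map_of_injective P.subtype_injective, c3]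
  have cc' : ∀ a ∈ P, ∀ b ∈ P, ⁅a, b⁆ ∈ Z := fun a ha b hb => ⟨_, cc ⟨a, ha⟩ ⟨b, hb⟩, rfl⟩
  let π := QuotientGroup.mk' Z
  have cm : ∀ a ∈ P, ∀ b ∈ P, Commute (π a) (π b) := fun a ha b hb => by
    rw [← commutatorElement_eq_one_iff_commute, ← map_commutatorElement]
    exact (QuotientGroup.eq_one_iff _).2 (cc' a ha b hb)
  have cj : ∀ a ∈ P, ∀ n, n * a * n⁻¹ ∈ P := fun a ha n => this.conj_mem a ha n
  have dec : ∀ n : N, n ∈ P ∨ ∃ u ∈ P, n = u * t := fun n => by
    by_cases h : n ∈ P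
    · exact Or.inl h
    · exact Or.inr ⟨n * t, (mul_mem_iff_of_index_two hi).2 (iff_of_false h htP), by
        rw [mul_assoc, ht, mul_one]⟩
  let I : Subgroup N :=
    { carrier := {y | y ∈ P ∧ π (t * y * t⁻¹) = (π y)⁻¹}
      one_mem' := ⟨one_mem _, by simp⟩
      mul_mem' := by
        rintro a b ⟨ha, ea⟩ ⟨hb, eb⟩
        refine ⟨mul_mem ha hb, ?_⟩
        rw [show t * (a * b) * t⁻¹ = t * a * t⁻¹ * (t * b * t⁻¹) by group, map_mul, ea, eb, map_mul,
          (cm a ha b hb).eq, mul_inv_rev]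
      inv_mem' := by
        rintro a ⟨ha, ea⟩
        refine ⟨inv_mem ha, ?_⟩
        rw [show t * a⁻¹ * t⁻¹ = (t * a * t⁻¹)⁻¹ by group, map_inv, ea, map_inv] }
  have ZI : Z ≤ I := fun z hz => ⟨(hZ.1 hz).1, by
    have h1 : π z = 1 := (QuotientGroup.eq_one_iff _).2 hz
    have h2 : π (t * z * t⁻¹) = 1 := (QuotientGroup.eq_one_iff _).2 (Zn.conj_mem z hz t)
    rw [h1, h2, inv_one]⟩
  have cP : ∀ y ∈ I, ∀ u ∈ P, u * y * u⁻¹ ∈ I := fun y hy u hu => by
    rw [show u * y * u⁻¹ = ⁅u, y⁆ * y by simp only [commutatorElement_def]; group]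
    exact mul_mem (ZI (cc' u hu y hy.1)) hy
  have ct : ∀ y ∈ I, t * y * t⁻¹ ∈ I := fun y hy => ⟨cj y hy.1 t, by
    rw [show t * (t * y * t⁻¹) * t⁻¹ = (t * t) * y * (t * t)⁻¹ by group, ht, hy.2]; simp⟩
  have In : I.Normal := ⟨fun y hy n => by
    rcases dec n with h | ⟨u, hu, rfl⟩
    · exact cP y hy n h
    · rw [show u * t * y * (u * t)⁻¹ = u * (t * y * t⁻¹) * u⁻¹ by group]
      exact cP _ (ct y hy) u hu⟩
  let κ := QuotientGroup.mk' I
  have k1 : ∀ a ∈ P, ∀ b ∈ P, Commute (κ a) (κ b) := fun a ha b hb => by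
    rw [← commutatorElement_eq_one_iff_commute, ← map_commutatorElement]
    exact (QuotientGroup.eq_one_iff _).2 (ZI (cc' a ha b hb))
  have k2 : ∀ a ∈ P, Commute (κ t) (κ a) := fun a ha => by
    rw [← commutatorElement_eq_one_iff_commute, ← map_commutatorElement]
    refine (QuotientGroup.eq_one_iff _).2 ⟨mul_mem (cj a ha t) (inv_mem ha), ?_⟩
    rw [← map_inv]
    congr 1
    simp only [commutatorElement_def]
    calc t * (t * a * t⁻¹ * a⁻¹) * t⁻¹ = (t * t) * a * t⁻¹ * a⁻¹ * t⁻¹ := by group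
      _ = (t * a * t⁻¹ * a⁻¹)⁻¹ := by rw [ht, hti]; simp [hti, mul_assoc]
  have k3 : ∀ a b : N, Commute (κ a) (κ b) := fun a b => by
    rcases dec a with h | ⟨u, hu, rfl⟩ <;> rcases dec b with h' | ⟨v, hv, rfl⟩
    · exact k1 a h b h'
    · rw [map_mul]; exact (k1 a h v hv).mul_right (k2 a h).symm
    · rw [map_mul]; exact (k1 u hu b h').mul_left (k2 b h')
    · rw [map_mul, map_mul]
      exact ((k1 u hu v hv).mul_right (k2 u hu).symm).mul_left ((k2 v hv).mul_right (Commute.refl _))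
  have PI : P ≤ I := hP.trans (commutator_le.2 fun a _ b _ => by
    rw [← QuotientGroup.eq_one_iff]
    change κ ⁅a, b⁆ = 1
    rw [map_commutatorElement, commutatorElement_eq_one_iff_commute]
    exact k3 a b)
  have inv : ∀ y ∈ P, ∃ c ∈ Z, t * y * t⁻¹ = y⁻¹ * c := fun y hy => by
    refine ⟨y * (t * y * t⁻¹), ?_, by group⟩
    rw [← QuotientGroup.eq_one_iff]
    change π _ = 1
    rw [map_mul, (PI hy).2, mul_inv_cancel]
  obtain ⟨a, b, hab⟩ : ∃ a b : P, ¬ a * b = b * a := by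
    by_contra h
    push Not at h
    exact hn ⟨⟨h⟩⟩
  set z : N := ⁅(a : N), (b : N)⁆ with hz
  have zZ : z ∈ Z := cc' a a.2 b b.2
  have z1 : z ≠ 1 := fun e => hab (Subtype.ext (commutatorElement_eq_one_iff_mul_comm.1 e))
  have tz : t * z * t⁻¹ = z := by
    obtain ⟨c, hc, ec⟩ := inv a a.2
    obtain ⟨d, hd, ed⟩ := inv b b.2
    have c1 := (hZ.1 hc).2
    have d1 := (hZ.1 hd).2
    have z2 := (hZ.1 zZ).2
    have e : (a : N) * b = z * (b * a) := by rw [hz, commutatorElement_def]; group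
    calc t * z * t⁻¹ = (t * a * t⁻¹) * (t * b * t⁻¹) * (t * a * t⁻¹)⁻¹ * (t * b * t⁻¹)⁻¹ := by
          rw [hz, commutatorElement_def]; group
      _ = (a : N)⁻¹ * (c * ((b : N)⁻¹ * d)) * c⁻¹ * a * d⁻¹ * b := by rw [ec, ed]; group
      _ = (a : N)⁻¹ * (b : N)⁻¹ * (d * a) * d⁻¹ * b := by
          rw [← c1 _ (mul_mem (inv_mem b.2) (hZ.1 hd).1)]; group
      _ = ((a : N)⁻¹ * (b : N)⁻¹ * z) * (b * a) := by rw [← d1 _ a.2, mul_assoc _ z, ← e]; group
      _ = z := by rw [z2 _ (mul_mem (inv_mem a.2) (inv_mem b.2))]; group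
  have : Fact (Nat.card Z).Prime := ⟨Zc ▸ Nat.prime_three⟩
  have tZ : ∀ w ∈ Z, t * w = w * t := by
    intro w hw
    rcases ((centralizer ({t} : Set N)).subgroupOf Z).eq_bot_or_eq_top_of_prime_card with h | h
    · have : (⟨z, zZ⟩ : Z) ∈ (centralizer ({t} : Set N)).subgroupOf Z :=
        mem_centralizer_singleton_iff.2 (mul_inv_eq_iff_eq_mul.1 tz).symm
      rw [h, mem_bot] at this
      exact absurd (congrArg Subtype.val this) z1
    · have : (⟨w, hw⟩ : Z) ∈ (centralizer ({t} : Set N)).subgroupOf Z := h ▸ mem_top _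
      exact (mem_centralizer_singleton_iff.1 this).symm
  obtain ⟨c, hcZ, ec⟩ := inv x hx
  have c3' : c ^ 3 = 1 := by
    have := pow_card_eq_one' (G := Z) (x := ⟨c, hcZ⟩)
    rw [Zc] at this
    exact congrArg Subtype.val this
  have x3 : x ^ 3 ∈ Z := ⟨_, cp ⟨x, hx⟩, rfl⟩
  have e1 : x ^ 3 = x⁻¹ ^ 3 := by
    have hcm : Commute x⁻¹ c := (hZ.1 hcZ).2 _ (inv_mem hx)
    calc x ^ 3 = t * x ^ 3 * t⁻¹ := by rw [tZ _ x3]; group
      _ = (x⁻¹ * c) ^ 3 := by rw [← ec, conj_pow]
      _ = x⁻¹ ^ 3 := by rw [hcm.mul_pow, c3', mul_one]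
  have e2 : x ^ 6 = 1 := by
    rw [show x ^ 6 = x ^ 3 * x ^ 3 by group]
    nth_rewrite 1 [e1]
    group
  have := orderOf_dvd_of_pow_eq_one e2
  rw [ho] at this
  omega

/-- `N = N(P) = P ⟨t⟩`, `t` an involution, `x ∈ P` of order `9`, `t` commutes with no element of order `9`. `P` abelian: noncyclic (no `27`),
`P ≤ C(P) < N`, so `|N : C(P)| = 2`; Smith-Tyrer `Cfsg.Agent.S3347.result` contradicts simplicity. `P` nonabelian: Yoshida `Cfsg.Agent.S2807.result`
(`|C₃ ≀ C₃| = 81 > 27`) gives `P = P ∩ S' = P ∩ N'`. `Z = Z(P) = P'` has order `3`. In `N / Z` (order `18`, `P / Z = 3²`): `y · t y t⁻¹` is central mod `Z`, and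
`N' Z / Z ≤ {y | t y t⁻¹ = y⁻¹}` (a normal subgroup `I` with `N/Z` abelian modulo `I`), so `t` inverts `P / Z`, hence centralises `Z = ⟨[a, b]⟩`;
`x ^ 3 ∈ Z`, `t x t⁻¹ = x⁻¹ c`, `c ∈ Z`, so `x ^ 3 = t x ^ 3 t⁻¹ = x⁻¹ ^ 3`, `x ^ 6 = 1`: false. -/
theorem j2_fin {S : Type*} [Group S] (hs : IsSimpleGroup S) (hS : Nat.card S = 604800)
    (h9 : ∀ g : S, 9 ∣ orderOf g → orderOf g = 9) (h9' : Om S 9) (P : Sylow 3 S)
    (hN : Nat.card (normalizer ((P : Subgroup S) : Set S)) = 54) : False := by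
  have : Finite S := Nat.finite_of_card_ne_zero (by rw [hS]; norm_num)
  have : Fact (Nat.Prime 2) := ⟨Nat.prime_two⟩
  have hP : Nat.card P = 3 ^ 3 := by
    rw [Sylow.card_eq_multiplicity, hS]
    congr 1
    rw [show 604800 = 3 ^ 3 * 22400 by norm_num, Nat.factorization_mul (by norm_num) (by norm_num),
      Nat.Prime.factorization_pow Nat.prime_three]
    simp [Nat.factorization_eq_zero_of_not_dvd (show ¬ 3 ∣ 22400 by norm_num)]
  set N := normalizer ((P : Subgroup S) : Set S) with hNd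
  have PN : (P : Subgroup S) ≤ N := le_normalizer
  have hc' : Nat.card ((P : Subgroup S).subgroupOf N) = 3 ^ 3 :=
    (Nat.card_congr (subgroupOfEquivOfLe PN).toEquiv).trans hP
  have hi : ((P : Subgroup S).subgroupOf N).index = 2 := by
    have := ((P : Subgroup S).subgroupOf N).card_mul_index
    rw [hc', hN] at this
    omega
  obtain ⟨t, ht⟩ := exists_prime_orderOf_dvd_card' (G := N) 2 (by rw [hN]; norm_num)
  have htt : t * t = 1 := by rw [← pow_two, ← ht, pow_orderOf_eq_one]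
  have ht' : orderOf (t : S) = 2 := by rw [orderOf_coe, ht]
  have htP : t ∉ (P : Subgroup S).subgroupOf N := fun h => by
    have := orderOf_dvd_natCard _ h
    rw [hc', ht] at this
    norm_num at this
  obtain ⟨x, hx, ho⟩ : ∃ x ∈ (P : Subgroup S), orderOf x = 9 := by
    obtain ⟨g, hg⟩ := h9'
    have hp : IsPGroup 3 (zpowers g) := IsPGroup.of_card (n := 2) (by rw [Nat.card_zpowers, hg]; norm_num)
    obtain ⟨Q, hQ⟩ := hp.exists_le_sylow
    obtain ⟨k, hk⟩ := MulAction.exists_smul_eq S Q P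
    refine ⟨k * g * k⁻¹, ?_, ?_⟩
    · rw [← hk]
      exact smul_mem_pointwise_smul g (MulAut.conj k) _ (hQ (mem_zpowers g))
    · rw [← hg]; exact orderOf_injective (MulAut.conj k).toMonoidHom (MulAut.conj k).injective g
  have nc : ¬ Commute (t : S) x := fun h => by
    have e := h.orderOf_mul_eq_mul_orderOf_of_coprime (by rw [ht', ho]; norm_num)
    rw [ht', ho] at e
    have := h9 (t * x) (by rw [e]; norm_num)
    omega
  by_cases hab : IsMulCommutative (P : Subgroup S)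
  · have hnc : ¬ IsCyclic (P : Subgroup S) := fun h => by
      obtain ⟨g, hg⟩ := IsCyclic.exists_ofOrder_eq_natCard (α := (P : Subgroup S))
      rw [← orderOf_coe, hP] at hg
      have := h9 g (by rw [hg]; norm_num)
      omega
    have hidx : ((centralizer ((P : Subgroup S) : Set S)).subgroupOf N).index = 2 := by
      have hle : (P : Subgroup S).subgroupOf N ≤ (centralizer ((P : Subgroup S) : Set S)).subgroupOf N :=
        fun y hy z hz => setLike_mul_comm (s := (P : Subgroup S)) hz hy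
      have hd := index_dvd_of_le hle
      rw [hi] at hd
      refine ((Nat.dvd_prime Nat.prime_two).1 hd).resolve_left fun e => nc ?_
      have : t ∈ (centralizer ((P : Subgroup S) : Set S)).subgroupOf N := index_eq_one.1 e ▸ mem_top _
      exact (this x hx).symm
    rcases S3347.result 3 (by norm_num) P hab hnc hidx with h | h
    · refine h ((hs.eq_bot_or_eq_top_of_normal _ inferInstance).resolve_left fun e => ?_)
      have : (t : S) ∈ pResidual 3 S := subset_closure (by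
        change Nat.Coprime _ _
        rw [ht']; norm_num)
      rw [e, mem_bot] at this
      rw [this, orderOf_one] at ht'
      omega
    · rw [PLengthLE, j2c_ups hs hS] at h
      have : (t : S) ∈ (⊥ : Subgroup S) := h ▸ mem_top _
      rw [mem_bot.1 this, orderOf_one] at ht'
      omega
  · have hS' : commutator S = ⊤ := by
      refine (hs.eq_bot_or_eq_top_of_normal _ inferInstance).resolve_left fun e => nc ?_
      have : ⁅(t : S), x⁆ ∈ commutator S := commutator_mem_commutator (mem_top _) (mem_top _)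
      rw [e, mem_bot] at this
      exact commutatorElement_eq_one_iff_commute.1 this
    have hle : (P : Subgroup S) ≤ ⁅N, N⁆ := by
      by_contra h
      obtain ⟨Q, f, hf⟩ := S2807.result P (fun e => h (by
        rw [hS', inf_top_eq] at e
        exact e.le.trans inf_le_right))
      have h1 := Nat.card_le_card_of_surjective f hf
      obtain ⟨k, hk⟩ := (Q.pow_dvd_card_of_pow_dvd_card (n := 4) (by
        rw [Nat.card_perm, Nat.card_fin]; decide))
      have h2 : 0 < Nat.card Q := Nat.card_pos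
      rw [hP, hk] at h1
      rw [hk] at h2
      omega
    refine j2c_nab hi hc' (fun h => hab ⟨⟨fun a b => Subtype.ext ?_⟩⟩) (fun y hy => ?_) htt htP
      (x := ⟨x, PN hx⟩) hx (by rw [← orderOf_coe]; exact ho)
    · exact congrArg (fun w : N => (w : S)) (setLike_mul_comm (s := (P : Subgroup S).subgroupOf N)
        (a := ⟨a, PN a.2⟩) (b := ⟨b, PN b.2⟩) a.2 b.2)
    · have := hle hy
      rw [← map_subtype_commutator] at this
      obtain ⟨w, hw, e⟩ := this
      rwa [← Subtype.ext e]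

end Cfsg.Agent.ISO
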