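import Cfsg.Agent.ISO.Defs
import Cfsg.Agent.ISP.C3
import Cfsg.Agent.S3633

set_option autoImplicit false

namespace Cfsg.Agent.ISO

open ISP

theorem tw_cnt {H α : Type*} [Group H] [Finite H] [Finite α] [MulAction H α] (K : Subgroup H) (a : α)
    (h0 : ∀ g : H, g • a = a) (h1 : ∀ g ∈ K, ∀ b : α, g • b = b)
    (h2 : ∀ g, g ∉ K → ∀ b : α, g • b = b → b = a) : K.index ∣ Nat.card α - 1 := by
  classical
  have := Fintype.ofFinite H
  have := Fintype.ofFinite α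
  have e := MulAction.sum_card_fixedBy_eq_card_orbits_mul_card_group H α
  have : Nonempty α := ⟨a⟩
  have k : ∀ g : H, Fintype.card (MulAction.fixedBy α g) = 1 + if g ∈ K then Nat.card α - 1 else 0 := fun g => by
    split_ifs with hg
    · rw [Nat.add_sub_of_le Nat.card_pos, Nat.card_eq_fintype_card]
      exact Fintype.card_congr (Equiv.subtypeUnivEquiv (h1 g hg))
    · exact Fintype.card_eq_one_iff.2 ⟨⟨a, h0 g⟩, fun b => Subtype.ext (h2 g hg b b.2)⟩
  simp only [k, Finset.sum_add_distrib, ← Finset.sum_filter, Finset.sum_const, smul_eq_mul, mul_one,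
    Finset.card_univ] at e
  rw [← Fintype.card_subtype, ← Nat.card_eq_fintype_card (α := H), ← K.card_mul_index,
    ← Nat.card_eq_fintype_card (α := K), ← mul_add, mul_left_comm] at e
  exact (Nat.dvd_add_right dvd_rfl).1 (Dvd.intro_left _ (Nat.eq_of_mul_eq_mul_left Nat.card_pos e).symm)

/-- `w` of order `m > 1`, `W = ⟨w⟩` a Hall subgroup, no prime of `m` adjacent to a prime of `|S| / m`. For `1 ≠ x ∈ W`,
`C(x) ≥ W` and `|C(x)|` has only primes of `m` (take a power of `x` of prime order `r`; an element of prime order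
`t ∤ m` of `C(x)` gives order `rt`), so `C(x) = W`. Hence `W ∩ W^g ∋ x ≠ 1` gives `W = C(x) = W^g`; `W` acts on its
other conjugates freely (`x` normalises `W' = W^g`: then `x ∈ N(W')` has order dividing `m`, and `W'` is the normal Hall
subgroup of `N(W')`, so `x ∈ W'`), so `n = |S : N(W)| ≡ 1 (mod m)`; `N(W)` acts on `W - 1` with stabilisers `W`, so
`e = |N(W) : W|` divides `m - 1`. -/
theorem ti_count {S : Type*} [Group S] [Finite S] {m k : ℕ} (hm : 1 < m) (hw : Om S m)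
    (hS : Nat.card S = m * k) (hc : m.Coprime k)
    (hno : ∀ r t : ℕ, r.Prime → t.Prime → r ∣ m → t ∣ k → ¬ Om S (r * t)) :
    ∃ e n, k = e * n ∧ e ∣ m - 1 ∧ n % m = 1 := by
  obtain ⟨w, hw⟩ := hw
  obtain ⟨W, hW⟩ : ∃ W, W = Subgroup.zpowers w := ⟨_, rfl⟩
  have cW : Nat.card W = m := by rw [hW, Nat.card_zpowers, hw]
  have com : ∀ x ∈ W, ∀ y ∈ W, x * y = y * x := by
    rw [hW]
    rintro _ ⟨i, rfl⟩ _ ⟨j, rfl⟩
    exact Commute.zpow_zpow_self w i j
  have idx : ∀ H : Subgroup S, W ≤ H → Nat.card H = m * W.relIndex H ∧ W.relIndex H ∣ k := fun H hH => by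
    have e : Nat.card H = m * W.relIndex H := by
      rw [← cW, ← (W.subgroupOf H).card_mul_index, Nat.card_congr (Subgroup.subgroupOfEquivOfLe hH).toEquiv]
      rfl
    exact ⟨e, Nat.dvd_of_mul_dvd_mul_left (by omega : 0 < m) (e ▸ hS ▸ H.card_subgroup_dvd_card)⟩
  have ord : ∀ x ∈ W, orderOf x ∣ m := fun x hx => cW ▸ W.orderOf_dvd_natCard hx
  have cen : ∀ x ∈ W, x ≠ 1 → ∀ y, x * y = y * x → y ∈ W := fun x hx x1 y hy => by
    obtain ⟨e, d⟩ := idx (Subgroup.centralizer {x}) fun z hz =>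
      Subgroup.mem_centralizer_singleton_iff.2 (com z hz x hx)
    refine Subgroup.relIndex_eq_one.1 (by_contra fun n => ?_) (Subgroup.mem_centralizer_singleton_iff.2 hy.symm)
    obtain ⟨t, ht, td⟩ := Nat.exists_prime_and_dvd n
    obtain ⟨r, hr, rd⟩ := Nat.exists_prime_and_dvd (mt orderOf_eq_one_iff.1 x1)
    obtain ⟨z, hz⟩ := Om.of_prime ht (e ▸ td.mul_left m)
    rw [← Subgroup.orderOf_coe] at hz
    refine hno r t hr ht (rd.trans (ord x hx)) (td.trans d) ((Om.of_commute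
      (Subgroup.mem_centralizer_singleton_iff.1 z.2).symm ?_).of_dvd (mul_dvd_mul rd hz.symm.dvd))
    rw [hz]
    exact (hc.coprime_dvd_left (ord x hx)).coprime_dvd_right (td.trans d)
  obtain ⟨e1, e2⟩ := idx (Subgroup.normalizer W) Subgroup.le_normalizer
  refine ⟨W.relIndex (Subgroup.normalizer W), (Subgroup.normalizer (W : Set S)).index, ?_, ?_, ?_⟩
  · refine Nat.eq_of_mul_eq_mul_left (by omega : 0 < m) ?_
    rw [← hS, ← mul_assoc, ← e1, Subgroup.card_mul_index]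
  · let _ := MulAction.compHom W W.normalizerMonoidHom
    rw [← cW]
    refine tw_cnt (α := W) _ 1 (fun g => map_one (W.normalizerMonoidHom g)) (fun g hg b => Subtype.ext ?_)
      fun g hg b hb => by_contra fun b1 => hg (cen b b.2 (fun e => b1 (Subtype.ext e)) g ?_)
    · exact mul_inv_eq_iff_eq_mul.2 (com _ hg _ b.2)
    · exact (mul_inv_eq_iff_eq_mul.1 (congrArg Subtype.val hb)).symm
  · have k1 := tw_cnt (H := W) (α := S ⧸ Subgroup.normalizer (W : Set S)) ⊥ (QuotientGroup.mk 1)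
      (fun g => QuotientGroup.eq.2 (by simpa using Subgroup.le_normalizer g.2))
      (fun g hg b => by rw [Subgroup.mem_bot.1 hg, one_smul]) fun x hx b hb => by
        obtain ⟨g, rfl⟩ := QuotientGroup.mk_surjective b
        have x1 : (x : S) ≠ 1 := fun e => hx (Subgroup.mem_bot.2 (Subtype.ext e))
        have h1 : g⁻¹ * x * g ∈ Subgroup.normalizer (W : Set S) := by
          simpa [mul_assoc] using QuotientGroup.eq.1 hb.symm
        have h2 : g⁻¹ * x * g ∈ W := by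
          refine PLocal.Amb.mem_of_pow_mem_of_coprime ((W.subgroupOf _).pow_index_mem ⟨_, h1⟩) ?_
          have := PLocal.Amb.orderOf_conj' g⁻¹ (x : S)
          rw [inv_inv] at this
          rw [this]
          exact (hc.coprime_dvd_left (ord x x.2)).coprime_dvd_right e2
        refine QuotientGroup.eq.2 ?_
        rw [mul_one]
        refine PLocal.Amb.mem_normalizer_of_cj_le (PLocal.Amb.cj_le_iff_forall.2 fun y hy =>
          cen _ h2 (fun e => x1 (by simpa [mul_assoc, inv_mul_eq_iff_eq_mul] using e)) _ ?_)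
        calc _ = g⁻¹ * (x * y) * g := by group
          _ = _ := by rw [com _ x.2 _ hy]; group
    rw [Subgroup.index_bot, cW] at k1
    obtain ⟨j, hj⟩ := k1
    have : 0 < (Subgroup.normalizer (W : Set S)).index := Nat.pos_of_ne_zero Subgroup.FiniteIndex.index_ne_zero
    rw [show (Subgroup.normalizer (W : Set S)).index = 1 + m * j by rw [← hj]; exact (Nat.add_sub_of_le this).symm,
      Nat.add_mul_mod_self_left, Nat.mod_eq_of_lt hm]

variable {G A : Type*} [Group G] [Finite G] [Group A] {φ : G →* A} {S : Subgroup A}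

/-- Test W: the primes of `m` divide neither `|K|` (`Cf.not_dvd_ker`) nor `|A : S|` (`Cf.dvd_of_index` with `ℓ = 2`),
so `Cf.om_sub` and `ti_count` apply. -/
theorem testW (h : Cf φ S) {m k a : ℕ} (hm : 1 < m) (hw : Om G m) (hS : Nat.card S = m * k)
    (hc : m.Coprime k) (ha : 2 ^ a ∣ k) (ha' : ¬ 2 ^ (a + 1) ∣ m * k)
    (h2 : ∀ r : ℕ, r.Prime → r ∣ m → r ≠ 2 ∧ ¬ Om G (2 * r) ∧ ¬ r ∣ 2 ^ a - 1)
    (hno : ∀ r t : ℕ, r.Prime → t.Prime → r ∣ m → t ∣ k → ¬ Om G (r * t)) :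
    ∃ e n, k = e * n ∧ e ∣ m - 1 ∧ n % m = 1 := by
  have := h.finite
  refine ti_count hm (h.om_sub ?_ ?_ hw) hS hc fun r t hr ht h3 h4 k => hno r t hr ht h3 h4 (h.om k)
  · exact Nat.Coprime.symm (Nat.coprime_of_dvd fun r hr h3 h4 =>
      h.not_dvd_ker hr (h2 r hr h4).1 (h2 r hr h4).2.1 h3)
  · exact Nat.coprime_of_dvd fun r hr h4 h3 => (h2 r hr h4).2.2 (h.dvd_of_index hr Nat.prime_two (h2 r hr h4).1
      (hS ▸ ha.mul_left m) (hS ▸ ha') (mul_comm 2 r ▸ (h2 r hr h4).2.1) h3)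

/-- Test B: `s₁, s₂ ∣ |K|` by `Cf.dvd_ker`; `{s₁, s₂, t}` is a coclique: `Cfsg.Agent.S3633.result`. -/
theorem testB (h : Cf φ S) {s₁ s₂ t : ℕ} (h1 : s₁.Prime) (h2 : s₂.Prime) (ht : t.Prime)
    (h12 : s₁ ≠ s₂) (o1 : Om G s₁) (o2 : Om G s₂) (n1 : ¬ s₁ ∣ Nat.card S) (n2 : ¬ s₂ ∣ Nat.card S)
    (t1 : t ∣ Nat.card S) (t2 : ¬ t ^ 2 ∣ Nat.card S) (d1 : ¬ s₁ ∣ t - 1) (d2 : ¬ s₂ ∣ t - 1)
    (a12 : ¬ Om G (s₁ * s₂)) (a1 : ¬ Om G (s₁ * t)) (a2 : ¬ Om G (s₂ * t)) : False := by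
  have k1 := h.dvd_ker (b := 1) h1 ht o1 n1 one_pos (by simpa using t1) t2 a1 (by simpa using d1)
  have k2 := h.dvd_ker (b := 1) h2 ht o2 n2 one_pos (by simpa using t1) t2 a2 (by simpa using d2)
  have e1 : s₁ ≠ t := fun e => n1 (e ▸ t1)
  have e2 : s₂ ≠ t := fun e => n2 (e ▸ t1)
  have := h.finite
  refine h12 ((S3633.result {s₁, s₂, t} (Finset.card_eq_three.2 ⟨_, _, _, h12, e1, e2, rfl⟩).ge ⟨?_, ?_⟩ φ.ker
    h.solv).1 s₁ (by simp) s₂ (by simp) k1 k2)
  · simp only [Finset.mem_insert, Finset.mem_singleton, forall_eq_or_imp, forall_eq]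
    exact ⟨⟨h1, o1.dvd_card⟩, ⟨h2, o2.dvd_card⟩, ht, (h.om (Om.of_prime ht t1)).dvd_card⟩
  · simp only [Finset.mem_insert, Finset.mem_singleton, forall_eq_or_imp, forall_eq]
    exact ⟨⟨fun k => absurd rfl k, fun _ => a12, fun _ => a1⟩,
      ⟨fun _ => mul_comm s₁ s₂ ▸ a12, fun k => absurd rfl k, fun _ => a2⟩,
      fun _ => mul_comm s₁ t ▸ a1, fun _ => mul_comm s₂ t ▸ a2, fun k => absurd rfl k⟩

/-- Test A: `s ∣ |K|` by `Cf.dvd_ker`, then `Cf.om_pow_of_ker`. -/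
theorem testA (h : Cf φ S) {s t r b : ℕ} (hs : s.Prime) (ht : t.Prime) (hr : r.Prime) (hr2 : r ≠ 2)
    (o : Om G s) (n1 : ¬ s ∣ Nat.card S) (t1 : t ∣ Nat.card S) (t2 : ¬ t ^ 2 ∣ Nat.card S)
    (d : ¬ s ∣ t - 1) (a1 : ¬ Om G (s * t)) (a2 : ¬ Om G (s * r)) (hb0 : 0 < b)
    (hb : r ^ b ∣ Nat.card S) : Om G (r ^ b) := by
  have k1 := h.dvd_ker (b := 1) hs ht o n1 one_pos (by simpa using t1) t2 a1 (by simpa using d)
  exact h.om_pow_of_ker hs hr hr2 (fun e => n1 (e ▸ (dvd_pow_self r hb0.ne').trans hb)) k1 a2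
    (hb.trans S.card_subgroup_dvd_card)

end Cfsg.Agent.ISO
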