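import Cfsg.Agent.ISO.Top
import Cfsg.Agent.ISO.TW

set_option autoImplicit false

namespace Cfsg.Agent.ISO

open ISP

variable {G A : Type*} [Group G] [Finite G] [Group A] {φ : G →* A} {S : Subgroup A}

/-- the decidable side conditions for `SO.not_adj` -/
def NA (n r s k l : ℕ) : Prop :=
  r ≠ s ∧ eta k ≤ n ∧ eta l ≤ n ∧ n < eta k + eta l ∧ ¬ (k ∣ l ∧ (l / k) % 2 = 1) ∧
    ¬ (l ∣ k ∧ (k / l) % 2 = 1)

/-- the decidable side conditions for `od_of` -/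
def OC (q r k : ℕ) : Prop :=
  r ≠ 2 ∧ ¬ r ∣ q ∧ 0 < k ∧ (r : ℤ) ∣ (q : ℤ) ^ k - 1 ∧ ∀ j, j < k → 0 < j → ¬ (r : ℤ) ∣ (q : ℤ) ^ j - 1

/-- the decidable side conditions for `SO.low` -/
def LC (n q : ℕ) (ε : ℤ) (d : ℕ) (δ : ℤ) (m : ℕ) : Prop :=
  0 < d ∧ (δ = 1 ∨ δ = -1) ∧ (d < n ∨ (d = n ∧ (ε = 0 ∨ ε = δ))) ∧ m % 2 = 1 ∧
    (m : ℤ) ∣ (q : ℤ) ^ d - δ

instance (n r s k l : ℕ) : Decidable (NA n r s k l) := by unfold NA; infer_instance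
instance (q r k : ℕ) : Decidable (OC q r k) := by unfold OC; infer_instance
instance (n q : ℕ) (ε : ℤ) (d : ℕ) (δ : ℤ) (m : ℕ) : Decidable (LC n q ε d δ m) := by
  unfold LC; infer_instance

theorem SO.na' {W : ℕ → Prop} {p n q : ℕ} {ε : ℤ} (h : SO W p n q ε) {r s k l : ℕ} (hr : r.Prime)
    (hs : s.Prime) (a : OC q r k) (b : OC q s l) (c : NA n r s k l) : ¬ W (r * s) :=
  h.not_adj hr hs a.1 b.1 a.2.1 b.2.1 c.1 (od_of a.2.2.1 a.2.2.2.1 a.2.2.2.2)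
    (od_of b.2.2.1 b.2.2.2.1 b.2.2.2.2) c.2.1 c.2.2.1 c.2.2.2.1 c.2.2.2.2.1 c.2.2.2.2.2

theorem SO.low' {W : ℕ → Prop} {p n q : ℕ} {ε : ℤ} (h : SO W p n q ε) {d m : ℕ} {δ : ℤ}
    (a : LC n q ε d δ m) : W m :=
  h.low d δ m a.1 a.2.1 a.2.2.1 (Nat.odd_iff.2 a.2.2.2.1) a.2.2.2.2

theorem kill1_aux (h : Cf φ S) {p n q T : ℕ} {ε : ℤ} (hW : SO (Om G) p n q ε) (hT : Nat.card S = T)
    (s₁ s₂ t e₁ e₂ e₃ d₁ d₂ : ℕ) (δ₁ δ₂ : ℤ) (h1 : s₁.Prime) (h2 : s₂.Prime) (ht : t.Prime)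
    (a : OC q s₁ e₁ ∧ OC q s₂ e₂ ∧ OC q t e₃) (b : NA n s₁ s₂ e₁ e₂ ∧ NA n s₁ t e₁ e₃ ∧ NA n s₂ t e₂ e₃)
    (c : LC n q ε d₁ δ₁ s₁ ∧ LC n q ε d₂ δ₂ s₂)
    (d : ¬ s₁ ∣ T ∧ ¬ s₂ ∣ T ∧ t ∣ T ∧ ¬ t ^ 2 ∣ T ∧ ¬ s₁ ∣ t - 1 ∧ ¬ s₂ ∣ t - 1) : False := by
  subst hT
  exact testB h h1 h2 ht b.1.1 (hW.low' c.1) (hW.low' c.2) d.1 d.2.1 d.2.2.1 d.2.2.2.1 d.2.2.2.2.1
    d.2.2.2.2.2 (hW.na' h1 h2 a.1 a.2.1 b.1) (hW.na' h1 ht a.1 a.2.2 b.2.1)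
    (hW.na' h2 ht a.2.1 a.2.2 b.2.2)

/-- `testB` with `(s₁, s₂, t)`: `q = 11`: `(61, 37, 7)`, orders `e = 4, 6, 3`; `q = 5`: `(13, 31, 7)`, `e = 4, 3, 6`;
`q = 2, n = 6`: `(17, 31, 13)`, `e = 8, 5, 12`. `Om G s` from `SO.low` (`61 ∣ 11²+1`, `37 ∣ 11³+1`, `13 ∣ 5²+1`,
`31 ∣ 5³-1`, `17 ∣ 2⁴+1`, `31 ∣ 2⁵-1`), non-adjacency from `SO.not_adj` + `od_of`. -/
theorem kill1 (h : Cf φ S) {p n q : ℕ} {ε : ℤ} (hW : SO (Om G) p n q ε)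
    (hs : (Nat.card S, n, q, ε) ∈ ([(175560, 3, 11, 0), (175560, 4, 11, 1),
      (273030912000000, 3, 11, 0), (273030912000000, 4, 11, 1), (604800, 3, 5, 0),
      (604800, 4, 5, 1), (64561751654400, 6, 2, 0), (448345497600, 6, 2, 0),
      (17971200, 6, 2, 0)] : List (ℕ × ℕ × ℕ × ℤ))) : False := by
  simp only [List.mem_cons, Prod.mk.injEq, List.not_mem_nil, or_false] at hs
  rcases hs with ⟨hT, rfl, rfl, rfl⟩ | ⟨hT, rfl, rfl, rfl⟩ | ⟨hT, rfl, rfl, rfl⟩ | ⟨hT, rfl, rfl, rfl⟩ |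
    ⟨hT, rfl, rfl, rfl⟩ | ⟨hT, rfl, rfl, rfl⟩ | ⟨hT, rfl, rfl, rfl⟩ | ⟨hT, rfl, rfl, rfl⟩ |
    ⟨hT, rfl, rfl, rfl⟩
  · exact kill1_aux h hW hT 61 37 7 4 6 3 2 3 (-1) (-1) (by norm_num) (by norm_num) (by norm_num) (by decide) (by decide)
      (by decide) (by norm_num)
  · exact kill1_aux h hW hT 61 37 7 4 6 3 2 3 (-1) (-1) (by norm_num) (by norm_num) (by norm_num) (by decide) (by decide)
      (by decide) (by norm_num)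
  · exact kill1_aux h hW hT 61 37 7 4 6 3 2 3 (-1) (-1) (by norm_num) (by norm_num) (by norm_num) (by decide) (by decide)
      (by decide) (by norm_num)
  · exact kill1_aux h hW hT 61 37 7 4 6 3 2 3 (-1) (-1) (by norm_num) (by norm_num) (by norm_num) (by decide) (by decide)
      (by decide) (by norm_num)
  · exact kill1_aux h hW hT 13 31 7 4 3 6 2 3 (-1) 1 (by norm_num) (by norm_num) (by norm_num) (by decide) (by decide)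
      (by decide) (by norm_num)
  · exact kill1_aux h hW hT 13 31 7 4 3 6 2 3 (-1) 1 (by norm_num) (by norm_num) (by norm_num) (by decide) (by decide)
      (by decide) (by norm_num)
  · exact kill1_aux h hW hT 17 31 13 8 5 12 4 5 (-1) 1 (by norm_num) (by norm_num) (by norm_num) (by decide) (by decide)
      (by decide) (by norm_num)
  · exact kill1_aux h hW hT 17 31 13 8 5 12 4 5 (-1) 1 (by norm_num) (by norm_num) (by norm_num) (by decide) (by decide)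
      (by decide) (by norm_num)
  · exact kill1_aux h hW hT 17 31 13 8 5 12 4 5 (-1) 1 (by norm_num) (by norm_num) (by norm_num) (by decide) (by decide)
      (by decide) (by norm_num)

end Cfsg.Agent.ISO
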