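import Cfsg.Agent.ISO.Top
import Cfsg.Agent.ISO.TW

set_option autoImplicit false

namespace Cfsg.Agent.ISO

open ISP

theorem k2_od (q r k : ℕ) (h : 0 < k ∧ 1 % r = q ^ k % r ∧ ∀ j < k, 0 < j → 1 % r ≠ q ^ j % r) :
    Od q r k := by
  have e : ∀ j : ℕ, (r : ℤ) ∣ (q : ℤ) ^ j - 1 ↔ 1 % r = q ^ j % r := fun j => by
    have := Nat.modEq_iff_dvd (n := r) (a := 1) (b := q ^ j)
    push_cast at this
    exact this.symm
  exact od_of h.1 ((e k).2 h.2.1) fun j h1 h2 h3 => h.2.2 j h1 h2 ((e j).1 h3)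

theorem k2_pd {r a b c : ℕ} (i j l : ℕ) (hr : r.Prime) (ha : a.Prime) (hb : b.Prime) (hc : c.Prime)
    (h : r ∣ a ^ i * b ^ j * c ^ l) : r = a ∨ r = b ∨ r = c := by
  rcases (Nat.Prime.dvd_mul hr).1 h with h | h
  · rcases (Nat.Prime.dvd_mul hr).1 h with h | h
    · exact .inl ((Nat.prime_dvd_prime_iff_eq hr ha).1 (hr.dvd_of_dvd_pow h))
    · exact .inr (.inl ((Nat.prime_dvd_prime_iff_eq hr hb).1 (hr.dvd_of_dvd_pow h)))
  · exact .inr (.inr ((Nat.prime_dvd_prime_iff_eq hr hc).1 (hr.dvd_of_dvd_pow h)))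

theorem k2_p {W : ℕ → Prop} {p n q : ℕ} {ε : ℤ} (h : SO W p n q ε) : p ∣ q := by
  obtain ⟨f, f0, rfl⟩ := h.hq
  exact dvd_pow_self p f0.ne'

theorem k2_pe {W : ℕ → Prop} {p n q : ℕ} {ε : ℤ} (h : SO W p n q ε) (hq : q.Prime) : p = q :=
  (Nat.prime_dvd_prime_iff_eq h.pp hq).1 (k2_p h)

theorem k2_na {W : ℕ → Prop} {p n q : ℕ} {ε : ℤ} (h : SO W p n q ε) {r s : ℕ} (k l : ℕ) (hr : r.Prime)
    (hs : s.Prime) (hk : Od q r k) (hl : Od q s l)
    (d : r ≠ 2 ∧ s ≠ 2 ∧ ¬ r ∣ q ∧ ¬ s ∣ q ∧ r ≠ s ∧ eta k ≤ n ∧ eta l ≤ n ∧ n < eta k + eta l ∧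
      ¬ (k ∣ l ∧ (l / k) % 2 = 1) ∧ ¬ (l ∣ k ∧ (k / l) % 2 = 1)) : ¬ W (r * s) := by
  obtain ⟨a1, a2, a3, a4, a5, a6, a7, a8, a9, a10⟩ := d
  exact h.not_adj hr hs a1 a2 a3 a4 a5 hk hl a6 a7 a8 a9 a10

theorem k2_np {W : ℕ → Prop} {p n q : ℕ} (h : SO W p n q 0) (hq : q.Prime) {r : ℕ} (k : ℕ)
    (hr : r.Prime) (hk : Od q r k) (d : r ≠ 2 ∧ r ≠ q ∧ n < eta k + 1) : ¬ W (r * q) := by
  obtain rfl := k2_pe h hq
  exact fun w => absurd (h.nadjp rfl r k hr d.1 d.2.1 hk w) (not_le.2 d.2.2)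

theorem k2_pow {W : ℕ → Prop} {p n q : ℕ} {ε : ℤ} (h : SO W p n q ε) {t c : ℕ} (ht : t.Prime)
    (d : ¬ t ∣ q ∧ ∀ d ≤ n, 0 < d → 1 % t ^ c ≠ q ^ d % t ^ c ∧ ¬ t ^ c ∣ q ^ d + 1) : ¬ W (t ^ c) := by
  intro w
  obtain ⟨j, j0, jn, e⟩ := h.pow t c ht (fun e => d.1 (e ▸ k2_p h)) w
  rcases e with e | e
  · refine (d.2 j jn j0).1 ((Nat.modEq_iff_dvd (n := t ^ c) (a := 1) (b := q ^ j)).2 ?_)
    push_cast
    exact e
  · exact (d.2 j jn j0).2 (by exact_mod_cast e)

theorem k2_num {m k : ℕ} (hm : 1 < m) (d : ¬ k % m ∣ m - 1)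
    (h : ∃ e n, k = e * n ∧ e ∣ m - 1 ∧ n % m = 1) : False := by
  obtain ⟨e, n, rfl, h1, h2⟩ := h
  have := Nat.le_of_dvd (by omega) h1
  rw [Nat.mul_mod, h2, mul_one, Nat.mod_mod, Nat.mod_eq_of_lt (by omega)] at d
  exact d h1

variable {G A : Type*} [Group G] [Finite G] [Group A] {φ : G →* A} {S : Subgroup A}

/-- `testA` with `(s, t, r^b)`, then `SO.pow` refutes `Om G (r^b)`: `q = 13` (`p = 13`): `(13, 17, 5²)` (`SO.lowp`,
`SO.nadjp`, `e(5) = e(17) = 4`); `q = 17`: `(307, 7, 5³)`, `e = 3, 6, 4`; `q = 8`: `(7, 13, 5²)`, `e = 1, 4, 4`;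
`q = 3`: `(7, 13, 5²)`, `e = 6, 3, 4`. (`p ∣ q`, so `p` is determined by `q`.) -/
theorem kill2 (h : Cf φ S) {p n q : ℕ} {ε : ℤ} (hW : SO (Om G) p n q ε)
    (hs : (Nat.card S, n, q, ε) ∈ ([(4030387200, 2, 13, 0), (145926144000, 3, 17, 0),
      (145926144000, 4, 17, 1), (17971200, 2, 8, 0), (17971200, 3, 3, 0),
      (17971200, 4, 3, 1)] : List (ℕ × ℕ × ℕ × ℤ))) : False := by
  simp only [List.mem_cons, Prod.mk.injEq, List.not_mem_nil, or_false] at hs
  rcases hs with ⟨e, rfl, rfl, rfl⟩ | ⟨e, rfl, rfl, rfl⟩ | ⟨e, rfl, rfl, rfl⟩ | ⟨e, rfl, rfl, rfl⟩ |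
    ⟨e, rfl, rfl, rfl⟩ | ⟨e, rfl, rfl, rfl⟩
  · refine k2_pow hW (t := 5) (c := 2) (by norm_num) (by decide) (testA h (s := 13) (t := 17) (by norm_num)
      (by norm_num) (by norm_num) (by norm_num) (k2_pe hW (by norm_num) ▸ hW.lowp) (by rw [e]; norm_num)
      (by rw [e]; norm_num) (by rw [e]; norm_num) (by norm_num) ?_ ?_ (by norm_num) (by rw [e]; norm_num))
    · exact k2_np hW (by norm_num) (r := 17) 4 (by norm_num) (k2_od _ _ _ (by decide)) (by decide)
    · exact k2_np hW (by norm_num) (r := 5) 4 (by norm_num) (k2_od _ _ _ (by decide)) (by decide)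
  · refine k2_pow hW (t := 5) (c := 3) (by norm_num) (by decide) (testA h (s := 307) (t := 7) (by norm_num)
      (by norm_num) (by norm_num) (by norm_num) (hW.low 3 (1) 307 (by norm_num) (by norm_num) (by norm_num) (by decide) (by norm_num)) (by rw [e]; norm_num) (by rw [e]; norm_num)
      (by rw [e]; norm_num) (by norm_num) ?_ ?_ (by norm_num) (by rw [e]; norm_num))
    · exact k2_na hW 3 6 (by norm_num) (by norm_num) (k2_od _ _ _ (by decide)) (k2_od _ _ _ (by decide))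
        (by decide)
    · exact k2_na hW 3 4 (by norm_num) (by norm_num) (k2_od _ _ _ (by decide)) (k2_od _ _ _ (by decide))
        (by decide)
  · refine k2_pow hW (t := 5) (c := 3) (by norm_num) (by decide) (testA h (s := 307) (t := 7) (by norm_num)
      (by norm_num) (by norm_num) (by norm_num) (hW.low 3 (1) 307 (by norm_num) (by norm_num) (by norm_num) (by decide) (by norm_num)) (by rw [e]; norm_num) (by rw [e]; norm_num)
      (by rw [e]; norm_num) (by norm_num) ?_ ?_ (by norm_num) (by rw [e]; norm_num))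
    · exact k2_na hW 3 6 (by norm_num) (by norm_num) (k2_od _ _ _ (by decide)) (k2_od _ _ _ (by decide))
        (by decide)
    · exact k2_na hW 3 4 (by norm_num) (by norm_num) (k2_od _ _ _ (by decide)) (k2_od _ _ _ (by decide))
        (by decide)
  · refine k2_pow hW (t := 5) (c := 2) (by norm_num) (by decide) (testA h (s := 7) (t := 13) (by norm_num)
      (by norm_num) (by norm_num) (by norm_num) (hW.low 1 (1) 7 (by norm_num) (by norm_num) (by norm_num) (by decide) (by norm_num)) (by rw [e]; norm_num) (by rw [e]; norm_num)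
      (by rw [e]; norm_num) (by norm_num) ?_ ?_ (by norm_num) (by rw [e]; norm_num))
    · exact k2_na hW 1 4 (by norm_num) (by norm_num) (k2_od _ _ _ (by decide)) (k2_od _ _ _ (by decide))
        (by decide)
    · exact k2_na hW 1 4 (by norm_num) (by norm_num) (k2_od _ _ _ (by decide)) (k2_od _ _ _ (by decide))
        (by decide)
  · refine k2_pow hW (t := 5) (c := 2) (by norm_num) (by decide) (testA h (s := 7) (t := 13) (by norm_num)
      (by norm_num) (by norm_num) (by norm_num) (hW.low 3 (-1) 7 (by norm_num) (by norm_num) (by norm_num) (by decide) (by norm_num)) (by rw [e]; norm_num) (by rw [e]; norm_num)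
      (by rw [e]; norm_num) (by norm_num) ?_ ?_ (by norm_num) (by rw [e]; norm_num))
    · exact k2_na hW 6 3 (by norm_num) (by norm_num) (k2_od _ _ _ (by decide)) (k2_od _ _ _ (by decide))
        (by decide)
    · exact k2_na hW 6 4 (by norm_num) (by norm_num) (k2_od _ _ _ (by decide)) (k2_od _ _ _ (by decide))
        (by decide)
  · refine k2_pow hW (t := 5) (c := 2) (by norm_num) (by decide) (testA h (s := 7) (t := 13) (by norm_num)
      (by norm_num) (by norm_num) (by norm_num) (hW.low 3 (-1) 7 (by norm_num) (by norm_num) (by norm_num) (by decide) (by norm_num)) (by rw [e]; norm_num) (by rw [e]; norm_num)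
      (by rw [e]; norm_num) (by norm_num) ?_ ?_ (by norm_num) (by rw [e]; norm_num))
    · exact k2_na hW 6 3 (by norm_num) (by norm_num) (k2_od _ _ _ (by decide)) (k2_od _ _ _ (by decide))
        (by decide)
    · exact k2_na hW 6 4 (by norm_num) (by norm_num) (k2_od _ _ _ (by decide)) (k2_od _ _ _ (by decide))
        (by decide)

/-- `testW`: `q = 7`: `m = 25 ∣ 7²+1`, `k = 24192 = 2⁷·3³·7`; `q = 307`: `m = 47125 = 5³·13·29 ∣ 307²+1`,
`k = 3096576 = 2¹⁴·3³·7`. The primes of `m` have `e = 4`, `Top 2 q 0 2 (-1)` (`SO.two`), they are not adjacent to `3`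
(`e(3) = 1` for `q = 7, 307`), `7` (`SO.nadjp` for `q = 7`; `e(7) = 2` for `q = 307`). Numerics: `e ∣ m - 1`,
`e ∣ k`, `k ≡ e (mod m)` has no solution (`k % m = 17`, resp. `33451`, `e < m`).
Last case (`q = 5`): `16 ∤ 5^d ± 1` for `d ≤ 2` (`SO.pow`). -/
theorem kill3 (h : Cf φ S) {p n q : ℕ} {ε : ℤ} (hW : SO (Om G) p n q ε)
    (h16 : Nat.card S = 17971200 → Om G 16)
    (hs : (Nat.card S, n, q, ε) ∈ ([(604800, 2, 7, 0), (145926144000, 2, 307, 0),
      (17971200, 2, 5, 0)] : List (ℕ × ℕ × ℕ × ℤ))) : False := by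
  simp only [List.mem_cons, Prod.mk.injEq, List.not_mem_nil, or_false] at hs
  rcases hs with ⟨e, rfl, rfl, rfl⟩ | ⟨e, rfl, rfl, rfl⟩ | ⟨e, rfl, rfl, rfl⟩
  · have T : Top 2 7 0 2 (-1) := ⟨.inl rfl, .inr (by norm_num), .inl ⟨rfl, .inl rfl⟩⟩
    have o : Od (7 : ℕ) 5 4 := k2_od _ _ _ (by decide)
    have m5 : ∀ r : ℕ, r.Prime → r ∣ 25 → r = 5 := fun r hr hd =>
      (Nat.prime_dvd_prime_iff_eq hr (by norm_num)).1 (hr.dvd_of_dvd_pow (n := 2) hd)
    have a2 := hW.two 2 (-1) 5 T (by norm_num) o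
    refine k2_num (by norm_num) (by norm_num) (testW h (m := 25) (k := 24192) (a := 7) (by norm_num)
      (hW.low 2 (-1) 25 (by norm_num) (by norm_num) (by norm_num) (by decide) (by norm_num)) e
      (by norm_num) (by norm_num) (by norm_num) (fun r hr hd => ?_) fun r t hr ht hd hd' => ?_)
    · obtain rfl := m5 r hr hd
      exact ⟨by norm_num, a2, by norm_num⟩
    · obtain rfl := m5 r hr hd
      rcases k2_pd 7 3 1 ht Nat.prime_two Nat.prime_three (by norm_num : Nat.Prime 7) hd' with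
        rfl | rfl | rfl
      · exact a2
      · exact k2_na hW 4 1 hr ht o (k2_od _ _ _ (by decide)) (by decide)
      · exact k2_np hW ht 4 hr o (by decide)
  · have T : Top 2 307 0 2 (-1) := ⟨.inl rfl, .inr (by norm_num), .inl ⟨rfl, .inl rfl⟩⟩
    have m5 : ∀ r : ℕ, r.Prime → r ∣ 47125 → r = 5 ∨ r = 13 ∨ r = 29 := fun r hr hd =>
      k2_pd 3 1 1 hr (by norm_num) (by norm_num) (by norm_num) hd
    have o : ∀ r : ℕ, r.Prime → r ∣ 47125 → Od (307 : ℕ) r 4 := fun r hr hd => by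
      rcases m5 r hr hd with rfl | rfl | rfl <;> exact k2_od _ _ _ (by decide)
    have a2 := fun r hr hd => hW.two 2 (-1) r T hr (o r hr hd)
    refine k2_num (by norm_num) (by norm_num) (testW h (m := 47125) (k := 3096576) (a := 14) (by norm_num)
      (hW.low 2 (-1) 47125 (by norm_num) (by norm_num) (by norm_num) (by decide) (by norm_num)) e
      (by norm_num) (by norm_num) (by norm_num) (fun r hr hd => ?_) fun r t hr ht hd hd' => ?_)
    · refine ⟨?_, a2 r hr hd, ?_⟩ <;> rcases m5 r hr hd with rfl | rfl | rfl <;> norm_num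
    · rcases k2_pd 14 3 1 ht Nat.prime_two Nat.prime_three (by norm_num : Nat.Prime 7) hd' with
        rfl | rfl | rfl
      · rw [mul_comm]
        exact a2 r hr hd
      · refine k2_na hW 4 1 hr ht (o r hr hd) (k2_od _ _ _ (by decide)) ?_
        rcases m5 r hr hd with rfl | rfl | rfl <;> decide
      · refine k2_na hW 4 2 hr ht (o r hr hd) (k2_od _ _ _ (by decide)) ?_
        rcases m5 r hr hd with rfl | rfl | rfl <;> decide
  · exact k2_pow hW (t := 2) (c := 4) Nat.prime_two (by decide) (h16 e)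

end Cfsg.Agent.ISO
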