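import Cfsg.Agent.ISO.J2A
import Cfsg.Agent.ISO.J2B
import Cfsg.Agent.ISO.J2C

set_option autoImplicit false

namespace Cfsg.Agent.ISO

theorem j2k {G A : Type*} [Group G] [Finite G] [Group A] {φ : G →* A} {S : Subgroup A}
    (h : ISP.Cf φ S) (hS : Nat.card S = 604800) (h7 : ∀ m, ISP.Om G m → 7 ∣ m → m = 7)
    (h9 : ∀ m, ISP.Om G m → 9 ∣ m → m = 9) (h9' : ISP.Om G 9) : False := by
  have := Fact.mk Nat.prime_three
  have hs := j2_red h hS h7 h9 h9'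
  have h9s : ∀ g : S, 9 ∣ orderOf g → orderOf g = 9 := fun g hg => h9 _ (h.om ⟨g, rfl⟩) hg
  obtain ⟨P⟩ : Nonempty (Sylow 3 S) := inferInstance
  exact j2_fin h.simp hS h9s hs P (j2_norm hS h9s hs P)

end Cfsg.Agent.ISO
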