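import Cfsg.Agent.ISO.Defs
import Cfsg.Agent.Misc.Zsigmondy

/-! The sieve for `ISO.sieve`: the computable checker and its run. -/

set_option autoImplicit false

namespace Cfsg.Agent.ISO

open ISP

/-- `(T, a, P)`: `2 ^ a` is the `2`-part of `T`, `P` lists the primes of `T` with their exponents in
`DD T`. -/
def nmTab : List (ℕ × ℕ × List (ℕ × ℕ)) :=
  [(7920, 4, [(2, 4), (3, 3), (5, 2), (11, 1)]),
   (95040, 6, [(2, 6), (3, 5), (5, 1), (11, 1)]),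
   (443520, 7, [(2, 7), (3, 2), (5, 1), (7, 1), (11, 1)]),
   (10200960, 7, [(2, 7), (3, 2), (5, 1), (7, 1), (11, 1), (23, 1)]),
   (244823040, 10, [(2, 10), (3, 4), (5, 1), (7, 1), (11, 2), (23, 1)]),
   (175560, 3, [(2, 3), (3, 1), (5, 1), (7, 2), (11, 1), (19, 1)]),
   (604800, 7, [(2, 7), (3, 3), (5, 2), (7, 1)]),
   (50232960, 7, [(2, 7), (3, 5), (5, 1), (17, 1), (19, 1)]),
   (86775571046077562880, 21, [(2, 21), (3, 3), (5, 1), (7, 3), (11, 3), (23, 1), (29, 1), (31, 1), (37, 1), (43, 1)]),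
   (4157776806543360000, 21, [(2, 21), (3, 9), (5, 4), (7, 4), (11, 1), (13, 1), (23, 1)]),
   (42305421312000, 18, [(2, 18), (3, 9), (5, 3), (7, 2), (11, 1), (23, 1)]),
   (495766656000, 10, [(2, 10), (3, 8), (5, 3), (7, 1), (11, 2), (23, 1)]),
   (64561751654400, 17, [(2, 17), (3, 9), (5, 2), (7, 1), (11, 1), (13, 1)]),
   (4089470473293004800, 18, [(2, 18), (3, 16), (5, 2), (7, 2), (11, 1), (13, 1), (17, 1), (23, 1)]),
   (1255205709190661721292800, 21, [(2, 21), (3, 16), (5, 2), (7, 5), (11, 1), (13, 1), (17, 1), (23, 1), (29, 1)]),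
   (44352000, 9, [(2, 9), (3, 2), (5, 3), (7, 2), (11, 1)]),
   (898128000, 7, [(2, 7), (3, 6), (5, 3), (7, 1), (11, 1)]),
   (4030387200, 10, [(2, 10), (3, 4), (5, 2), (7, 3), (17, 1)]),
   (145926144000, 14, [(2, 14), (3, 4), (5, 3), (7, 1), (13, 1), (29, 1)]),
   (448345497600, 13, [(2, 13), (3, 7), (5, 2), (7, 1), (11, 1), (13, 1)]),
   (460815505920, 9, [(2, 9), (3, 4), (5, 1), (7, 4), (11, 1), (19, 1), (31, 1)]),
   (273030912000000, 14, [(2, 14), (3, 7), (5, 6), (7, 1), (11, 1), (19, 1)]),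
   (51765179004000000, 8, [(2, 8), (3, 8), (5, 7), (7, 1), (11, 1), (31, 1), (37, 1), (67, 1)]),
   (90745943887872000, 15, [(2, 15), (3, 10), (5, 3), (7, 3), (13, 1), (19, 1), (31, 2)]),
   (4154781481226426191177580544000000, 41, [(2, 41), (3, 13), (5, 6), (7, 2), (11, 1), (13, 1), (17, 1), (19, 1), (23, 1), (31, 1), (47, 1)]),
   (808017424794512875886459904961710757005754368000000000, 46, [(2, 46), (3, 21), (5, 9), (7, 6), (11, 2), (13, 3), (17, 1), (19, 1), (23, 1), (29, 1), (31, 1), (41, 1), (47, 2), (59, 1), (71, 1)]),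
   (17971200, 11, [(2, 11), (3, 3), (5, 2), (13, 1)])]

def nmPr : List ℕ := [2, 3, 5, 7, 11, 13, 17, 19, 23, 29, 31, 37, 41, 43, 47, 59, 67, 71]

def nmProd : List (ℕ × ℕ) → ℕ
  | [] => 1
  | x :: t => x.1 ^ x.2 * nmProd t

def nmRad : List (ℕ × ℕ) → ℕ
  | [] => 1
  | x :: t => x.1 * nmRad t

def nmX (q : ℕ) : ℕ → ℕ
  | 0 => 1
  | j + 1 => (q ^ (j + 1) - 1) * nmX q j

def nmF (P : List (ℕ × ℕ)) (l : ℕ) : List (ℕ × ℕ) := P.filter fun x => x.1 % l == 1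

/-- necessary for `PrimIn T q l` -/
def nmCt (P : List (ℕ × ℕ)) (q l : ℕ) : Bool :=
  (nmProd P * (nmX q (l - 1) % (q ^ l - 1)) ^ 256) % (q ^ l - 1) == 0 || Nat.ble (2 ^ 256) (q ^ l - 1)

instance nmDecPar (n q : ℕ) (ε : ℤ) : Decidable (Par n q ε) := by unfold Par; infer_instance

instance nmDecTop (n q : ℕ) (ε : ℤ) (d : ℕ) (δ : ℤ) : Decidable (Top n q ε d δ) := by
  unfold Top; infer_instance

def nmFin (T : ℕ) (P : List (ℕ × ℕ)) (n q : ℕ) (ε : ℤ) : Bool :=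
  !decide (Par n q ε) ||
    ([(n, (1 : ℤ)), (n, -1), (n - 1, 1), (n - 1, -1)].any fun x =>
      decide (Top n q ε x.1 x.2) && !nmCt P q (lv x.1 x.2)) ||
    (P.any fun x => !decide (((q : ℤ) * ordL n q ε) % (x.1 : ℤ) = 0)) ||
    decide (q ∈ [18, 57, 87]) || decide ((T, n, q, ε) ∈ surv)

def nmChk (T : ℕ) (P : List (ℕ × ℕ)) (l q : ℕ) : Bool :=
  !nmCt P q l || [l, l / 2].all fun d => [d, d + 1].all fun n =>
    [(0 : ℤ), 1, -1].all fun ε => nmFin T P n q ε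

def nmLp (N : ℕ) (f : ℕ → Bool) : ℕ → ℕ → Bool
  | 0, _ => false
  | k + 1, q => Nat.ble N ((q - 1) ^ 4) || (f q && nmLp N f k (q + 1))

def nmDivs : List (ℕ × ℕ) → List ℕ
  | [] => [1]
  | x :: t => (List.range (x.2 + 1)).flatMap fun i => (nmDivs t).map fun y => x.1 ^ i * y

def nmNw (x : ℕ) : ℕ → ℕ → ℕ
  | 0, y => y
  | k + 1, y => if (y + x / y) / 2 < y then nmNw x k ((y + x / y) / 2) else y

def nmSq (x : ℕ) : ℕ := nmNw x 12 (2 ^ (x.log2 / 2 + 1))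

/-- `f` holds at the square root of `x`, if there is one -/
def nmRt (x s : ℕ) (f : ℕ → Bool) : Bool :=
  Nat.ble (s * s) x && Nat.blt x ((s + 1) * (s + 1)) && (s * s != x || f s)

def nmA (e : ℕ × ℕ × List (ℕ × ℕ)) : Bool :=
  e.1 % 2 ^ e.2.1 == 0 && e.1 / 2 ^ e.2.1 % 2 == 1 && nmRad e.2.2 ^ 47 % e.1 == 0 &&
    e.2.2.all fun x => decide (x.1 ∈ nmPr) && e.1 % x.1 == 0 &&
      e.1 * (2 ^ e.2.1 - 1) % x.1 ^ (x.2 + 1) != 0

def nmB (e : ℕ × ℕ × List (ℕ × ℕ)) : Bool :=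
  (List.range 66).all fun i => i == 1 ||
    nmLp ((i + 5) * nmProd (nmF e.2.2 (i + 5))) (nmChk e.1 e.2.2 (i + 5)) 200 2

def nmC (e : ℕ × ℕ × List (ℕ × ℕ)) : Bool :=
  ((nmDivs ((2, 2) :: (3, 1) :: nmF e.2.2 3)).all fun N =>
    nmRt (4 * N - 3) (nmSq (4 * N - 3)) fun s => nmChk e.1 e.2.2 3 ((s - 1) / 2)) &&
  ((nmDivs ((2, 2) :: (3, 1) :: nmF e.2.2 4)).all fun N =>
    nmRt (N - 1) (nmSq (N - 1)) fun s => nmChk e.1 e.2.2 4 s) &&
  ((nmDivs ((2, 2) :: (3, 1) :: nmF e.2.2 6)).all fun N =>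
    nmRt (4 * N - 3) (nmSq (4 * N - 3)) fun s => nmChk e.1 e.2.2 6 ((s + 1) / 2))

theorem nmTab_fst : nmTab.map (·.1) = spoL := by decide +kernel

theorem nmTab_A : nmTab.all nmA = true := by decide +kernel

theorem nmTab_B : nmTab.all nmB = true := by decide +kernel

theorem nmTab_C : nmTab.all nmC = true := by decide +kernel

end Cfsg.Agent.ISO
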